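/-
`G₂(q)`, `q` odd: tables, the torus, the Weyl group by words and the SL₂'s, for the classification of involutions.
-/
import Cfsg.Agent.Lib.Chev.ChevData
import Cfsg.Agent.Lib.Chev.CheckG2
import Cfsg.Agent.Lib.Chev.BNFacts
import Cfsg.Agent.Lib.Chev.Sylow
import Cfsg.Agent.Lib.Chev.SL2
import Cfsg.Agent.Lib.Chev.BruhatNormalForm

set_option autoImplicit false
set_option linter.unusedSectionVars false
set_option maxRecDepth 100000

namespace Cfsg.Agent.G2OddInvol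

open Cfsg.Lie Cfsg.Agent.Chev
open scoped MatrixGroups

theorem hn : chevG2.nroots = 12 := by decide +kernel

theorem hk : chevG2.rank = 2 := by decide +kernel

theorem simple_val : chevG2.simple 0 = 7 ∧ chevG2.simple 1 = 6 := by decide +kernel

theorem neg_val : chevG2.neg 7 = 4 ∧ chevG2.neg 6 = 5 ∧ chevG2.neg 8 = 3 := by decide +kernel

theorem refl_val : chevG2.reflectRoot 0 7 = 4 ∧ chevG2.reflectRoot 0 6 = 10 ∧ chevG2.reflectRoot 1 7 = 8 ∧
    chevG2.reflectRoot 1 6 = 5 ∧ chevG2.reflectRoot 1 8 = 7 ∧ chevG2.reflectRoot 1 3 = 4 := by decide +kernel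

theorem cartan_val : chevG2.cartan 0 7 = 2 ∧ chevG2.cartan 1 7 = -1 ∧ chevG2.cartan 0 6 = -3 ∧
    chevG2.cartan 1 6 = 2 ∧ chevG2.cartan 0 4 = -2 ∧ chevG2.cartan 1 4 = 1 ∧ chevG2.cartan 0 5 = 3 ∧
    chevG2.cartan 1 5 = -2 ∧ chevG2.cartan 0 3 = 1 ∧ chevG2.cartan 1 3 = -1 := by decide +kernel

theorem coroot_val : (chevG2.coroot.getD 4 #[]).getD 0 0 = -1 ∧ (chevG2.coroot.getD 4 #[]).getD 1 0 = 0 ∧
    (chevG2.coroot.getD 5 #[]).getD 0 0 = 0 ∧ (chevG2.coroot.getD 5 #[]).getD 1 0 = -1 ∧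
    (chevG2.coroot.getD 8 #[]).getD 0 0 = 1 ∧ (chevG2.coroot.getD 8 #[]).getD 1 0 = 3 ∧
    (chevG2.coroot.getD 10 #[]).getD 0 0 = 1 ∧ (chevG2.coroot.getD 10 #[]).getD 1 0 = 1 := by decide +kernel

/-- The image of a root under a word in the fundamental reflections. -/
noncomputable def wn (l : List ℕ) (r : ℕ) : ℕ := l.foldr G2.cert.w r

/-- The longest word. -/
def W0 : List ℕ := [0, 1, 0, 1, 0, 1]

/-- The palindromic reduced words other than the longest. -/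
def low : List (List ℕ) := [[], [0], [1], [0, 1, 0], [1, 0, 1], [0, 1, 0, 1, 0], [1, 0, 1, 0, 1]]

/-- A word for each element of the Weyl group. -/
def words : List (List ℕ) := low ++ [[0, 1], [1, 0], [0, 1, 0, 1], [1, 0, 1, 0], W0]

theorem words_lt : ∀ l ∈ words, ∀ i ∈ l, i < 2 := by decide +kernel

theorem words_closed : ∀ j < 2, ∀ l ∈ words, ∃ l' ∈ words, ∀ r < 12, wn (j :: l) r = wn l' r := by
  decide +kernel

theorem words_invol : ∀ l ∈ words, l = W0 ∨ l ∈ low ∨ ∃ r < 12, wn l (wn l r) ≠ r := by decide +kernel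

theorem w0_facts : (∀ r < 12, wn W0 r = 11 - r) ∧ (∀ r < 12, wn ([1] ++ W0 ++ [1]) r = wn W0 r) ∧
    ∀ i < 2, ∃ r < 12, wn (W0 ++ [i]) r ≠ wn W0 r := by decide +kernel

variable (F : Type*) [Field F]

/-- The root subgroup data. -/
abbrev T : RootBN.Data (GL chevG2.Idx F) (Fin chevG2.nroots) (Fin chevG2.rank) :=
  BNSetup.data (G2.good : Good chevG2) F

theorem ax : (T F).Axioms := BNSetup.axioms G2.good BNSetup.facts_chevG2

/-- A fundamental node. -/
def ki (i : ℕ) : Fin chevG2.rank := ⟨i % 2, hk ▸ Nat.mod_lt _ two_pos⟩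

variable {F}

theorem val_wl : ∀ l : List ℕ, (∀ i ∈ l, i < 2) → ∀ r : Fin chevG2.nroots,
    ((T F).wl (l.map ki) r).val = wn l r.val := by
  intro l
  induction l with
  | nil => intro _ r; rfl
  | cons i l ih =>
    intro hl r
    have hi : i < 2 := hl i List.mem_cons_self
    have hik : i < chevG2.rank := hk ▸ hi
    rw [List.map_cons, RootBN.Data.wl_cons, Equiv.Perm.mul_apply, BNSetup.data_refl,
      ih (fun j hj => hl j (List.mem_cons_of_mem _ hj))]
    have hlt : wn l r.val < chevG2.nroots := by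
      rw [← ih (fun j hj => hl j (List.mem_cons_of_mem _ hj))]; exact Fin.is_lt _
    show chevG2.reflectRoot (i % 2) _ = G2.cert.w i (wn l r.val)
    rw [Nat.mod_eq_of_lt hi, G2.valid.w_eq_reflectRoot hik hlt]

theorem wl_eq {l l' : List ℕ} (hl : ∀ i ∈ l, i < 2) (hl' : ∀ i ∈ l', i < 2)
    (h : ∀ r < 12, wn l r = wn l' r) : (T F).wl (l.map ki) = (T F).wl (l'.map ki) :=
  Equiv.ext fun r => Fin.ext (by rw [val_wl l hl, val_wl l' hl']; exact h _ (hn ▸ r.2))

theorem exists_normal {m : GL chevG2.Idx F} (hm : m ∈ (T F).N) :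
    ∃ h ∈ (T F).H, ∃ l ∈ words, m = h * (T F).nw (l.map ki) := by
  obtain ⟨h, hh, l, rfl⟩ := RootBN.Data.exists_word (ax F) hm
  suffices key : ∃ h' ∈ (T F).H, ∃ l' ∈ words, (T F).nw l = h' * (T F).nw (l'.map ki) by
    obtain ⟨h', hh', l', hl', e⟩ := key
    exact ⟨h * h', (T F).H.mul_mem hh hh', l', hl', by rw [e, mul_assoc]⟩
  clear hm hh
  induction l with
  | nil => exact ⟨1, one_mem _, [], by simp [words, low], by simp⟩
  | cons j l ih =>
    obtain ⟨h', hh', l', hl', e⟩ := ih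
    have hj2 : j.val < 2 := lt_of_lt_of_eq j.2 hk
    obtain ⟨l'', hl'', e''⟩ := words_closed j.val hj2 l' hl'
    have hlt : ∀ i ∈ j.val :: l', i < 2 := by
      intro i hi; rcases List.mem_cons.1 hi with rfl | hi
      exacts [hj2, words_lt l' hl' i hi]
    have hw := wl_eq (F := F) hlt (words_lt l'' hl'') e''
    have hH := RootBN.Data.mul_inv_mem_H (ax F) (RootBN.Data.nw_mem_N ((j.val :: l').map ki))
      (RootBN.Data.nw_mem_N (l''.map ki)) (RootBN.Data.acts_nw (ax F) _)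
      (hw.symm ▸ RootBN.Data.acts_nw (ax F) _)
    refine ⟨(T F).nn j * h' * ((T F).nn j)⁻¹ * ((T F).nw ((j.val :: l').map ki) * ((T F).nw (l''.map ki))⁻¹),
      (T F).H.mul_mem ((ax F).nn_H j h' hh') hH, l'', hl'', ?_⟩
    have hkj : ki j.val = j := Fin.ext (Nat.mod_eq_of_lt hj2)
    rw [RootBN.Data.nw_cons, e, List.map_cons, RootBN.Data.nw_cons, hkj]
    group

/-! ### The torus -/

/-- `h₇(a) h₆(b)`. -/
noncomputable def hh (a b : F) : GL chevG2.Idx F := hG chevG2 F 7 a * hG chevG2 F 6 b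

theorem hgood : Good chevG2 := G2.good

theorem lt12 {r : ℕ} (h : r < 12) : r < chevG2.nroots := by rw [hn]; exact h

theorem coe_hh {a b : F} (ha : a ≠ 0) (hb : b ≠ 0) :
    ((hh a b : GL chevG2.Idx F) : Matrix chevG2.Idx chevG2.Idx F) =
      hdiag chevG2 (fun s => a ^ chevG2.cartan 0 s * b ^ chevG2.cartan 1 s) := by
  have h7 := hgood.coe_hG_simple (F := F) (i := 0) (by rw [hk]; norm_num) ha
  have h6 := hgood.coe_hG_simple (F := F) (i := 1) (by rw [hk]; norm_num) hb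
  rw [simple_val.1] at h7
  rw [simple_val.2] at h6
  rw [hh, Units.val_mul, h7, h6, hdiag_mul]

theorem hh_mem {a b : F} (ha : a ≠ 0) (hb : b ≠ 0) : hh a b ∈ (T F).H :=
  Subgroup.mul_mem _ (Subgroup.subset_closure ⟨7, a, lt12 (by norm_num), ha, hgood.coe_hG _ _⟩)
    (Subgroup.subset_closure ⟨6, b, lt12 (by norm_num), hb, hgood.coe_hG _ _⟩)

theorem hh_mul {a b a' b' : F} (ha : a ≠ 0) (hb : b ≠ 0) (ha' : a' ≠ 0) (hb' : b' ≠ 0) :
    hh a b * hh a' b' = hh (a * a') (b * b') := by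
  unfold hh
  rw [← hgood.hG_mul (lt12 (by norm_num)) ha ha', ← hgood.hG_mul (lt12 (by norm_num)) hb hb']
  have := hgood.hG_comm (F := F) (r := 6) (r' := 7) (lt12 (by norm_num)) (lt12 (by norm_num)) hb ha'
  rw [mul_assoc, ← mul_assoc (hG chevG2 F 6 b), this]
  simp only [mul_assoc]

theorem hh_one : hh (1 : F) 1 = 1 := by
  have h := hh_mul (F := F) one_ne_zero one_ne_zero one_ne_zero one_ne_zero
  rw [mul_one] at h
  exact mul_eq_left.1 h

theorem hh_eq_one {a b : F} (ha : a ≠ 0) (hb : b ≠ 0) (h : hh a b = 1) : a = 1 ∧ b = 1 := by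
  have hmat : hdiag chevG2 (fun s => a ^ chevG2.cartan 0 s * b ^ chevG2.cartan 1 s) =
      (1 : Matrix chevG2.Idx chevG2.Idx F) := by rw [← coe_hh ha hb, h, Units.val_one]
  have ent : ∀ s, (hs : s < 12) → a ^ chevG2.cartan 0 s * b ^ chevG2.cartan 1 s = 1 := fun s hs => by
    have := congrFun (congrFun hmat (Sum.inr ⟨s, lt12 hs⟩)) (Sum.inr ⟨s, lt12 hs⟩)
    simpa [hdiag] using this
  have h7 := ent 7 (by norm_num)
  have h6 := ent 6 (by norm_num)
  rw [cartan_val.1, cartan_val.2.1, zpow_neg_one, mul_inv_eq_one₀ hb] at h7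
  rw [cartan_val.2.2.1, cartan_val.2.2.2.1, ← h7, zpow_neg, ← zpow_mul] at h6
  have ha1 : a = 1 := by
    norm_num at h6
    field_simp at h6
    exact h6
  exact ⟨ha1, by rw [← h7, ha1, one_zpow]⟩

theorem hG_eq_hh {r : ℕ} (hr : r < 12) {t : F} (ht : t ≠ 0) :
    hG chevG2 F r t = hh (t ^ (chevG2.coroot.getD r #[]).getD 0 0) (t ^ (chevG2.coroot.getD r #[]).getD 1 0) := by
  have e : List.range chevG2.rank = [0, 1] := by rw [hk]; rfl
  rw [hgood.hG_eq_prod (lt12 hr) ht, e]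
  simp [simple_val, hh]

theorem exists_hh {h : GL chevG2.Idx F} (hh' : h ∈ (T F).H) : ∃ a b : F, a ≠ 0 ∧ b ≠ 0 ∧ h = hh a b := by
  change h ∈ chevG2.diagonalSubgroup F at hh'
  unfold ChevalleyDatum.diagonalSubgroup at hh'
  induction hh' using Subgroup.closure_induction with
  | mem x hx =>
    obtain ⟨r, t, hr, ht, e⟩ := hx
    have hx' : x = hG chevG2 F r t := Units.ext (e.trans (hgood.coe_hG r t).symm)
    exact ⟨_, _, zpow_ne_zero _ ht, zpow_ne_zero _ ht, hx'.trans (hG_eq_hh (hn ▸ hr) ht)⟩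
  | one => exact ⟨1, 1, one_ne_zero, one_ne_zero, hh_one.symm⟩
  | mul x y _ _ hx hy =>
    obtain ⟨a, b, ha, hb, rfl⟩ := hx
    obtain ⟨a', b', ha', hb', rfl⟩ := hy
    exact ⟨_, _, mul_ne_zero ha ha', mul_ne_zero hb hb', hh_mul ha hb ha' hb'⟩
  | inv x _ hx =>
    obtain ⟨a, b, ha, hb, rfl⟩ := hx
    refine ⟨_, _, inv_ne_zero ha, inv_ne_zero hb, inv_eq_of_mul_eq_one_right ?_⟩
    rw [hh_mul ha hb (inv_ne_zero ha) (inv_ne_zero hb), mul_inv_cancel₀ ha, mul_inv_cancel₀ hb, hh_one]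

theorem nn_zero : (T F).nn (ki 0) = nG chevG2 F 7 1 := by
  rw [(isChevData (F := F) G2.good BNSetup.facts_chevG2).nn_eq]
  show nG chevG2 F (chevG2.simple 0) 1 = _
  rw [simple_val.1]

theorem nn_one : (T F).nn (ki 1) = nG chevG2 F 6 1 := by
  rw [(isChevData (F := F) G2.good BNSetup.facts_chevG2).nn_eq]
  show nG chevG2 F (chevG2.simple 1) 1 = _
  rw [simple_val.2]

theorem nn_zero_conj {a b : F} (ha : a ≠ 0) (hb : b ≠ 0) :
    (T F).nn (ki 0) * hh a b * ((T F).nn (ki 0))⁻¹ = hh (a⁻¹ * b) b := by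
  have e7 := hgood.nG_mul_hG (F := F) (i := 0) (by rw [hk]; norm_num) (r := 7) (lt12 (by norm_num)) ha
  have e6 := hgood.nG_mul_hG (F := F) (i := 0) (by rw [hk]; norm_num) (r := 6) (lt12 (by norm_num)) hb
  rw [simple_val.1, refl_val.1, hG_eq_hh (r := 4) (by norm_num) ha, coroot_val.1, coroot_val.2.1, zpow_neg_one,
    zpow_zero] at e7
  rw [simple_val.1, refl_val.2.1, hG_eq_hh (r := 10) (by norm_num) hb, coroot_val.2.2.2.2.2.2.1,
    coroot_val.2.2.2.2.2.2.2, zpow_one] at e6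
  rw [nn_zero, mul_inv_eq_iff_eq_mul]
  conv_lhs => rw [hh, ← mul_assoc, e7, mul_assoc, e6, ← mul_assoc, hh_mul (inv_ne_zero ha) one_ne_zero hb hb,
    one_mul]

theorem nn_one_conj {a b : F} (ha : a ≠ 0) (hb : b ≠ 0) :
    (T F).nn (ki 1) * hh a b * ((T F).nn (ki 1))⁻¹ = hh a (a ^ 3 * b⁻¹) := by
  have e7 := hgood.nG_mul_hG (F := F) (i := 1) (by rw [hk]; norm_num) (r := 7) (lt12 (by norm_num)) ha
  have e6 := hgood.nG_mul_hG (F := F) (i := 1) (by rw [hk]; norm_num) (r := 6) (lt12 (by norm_num)) hb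
  rw [simple_val.2, refl_val.2.2.1, hG_eq_hh (r := 8) (by norm_num) ha, coroot_val.2.2.2.2.1,
    coroot_val.2.2.2.2.2.1, zpow_one] at e7
  rw [simple_val.2, refl_val.2.2.2.1, hG_eq_hh (r := 5) (by norm_num) hb, coroot_val.2.2.1, coroot_val.2.2.2.1,
    zpow_neg_one, zpow_zero] at e6
  rw [nn_one, mul_inv_eq_iff_eq_mul]
  conv_lhs => rw [hh, ← mul_assoc, e7, mul_assoc, e6, ← mul_assoc,
    hh_mul ha (zpow_ne_zero _ ha) one_ne_zero (inv_ne_zero hb), mul_one]
  rw [show a ^ (3 : ℤ) = a ^ (3 : ℕ) from zpow_natCast a 3]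

theorem nn_zero_sq : (T F).nn (ki 0) * (T F).nn (ki 0) = hh (-1) 1 := by
  have h := hgood.nG_simple_sq (F := F) (i := 0) (by rw [hk]; norm_num)
  rw [simple_val.1] at h
  rw [nn_zero, h, hh]
  have h1 : hG chevG2 F 6 1 = 1 := by
    have := hgood.hG_mul (F := F) (r := 6) (lt12 (by norm_num)) one_ne_zero one_ne_zero
    rw [mul_one] at this; exact mul_eq_left.1 this
  rw [h1, mul_one]

theorem nn_one_sq : (T F).nn (ki 1) * (T F).nn (ki 1) = hh 1 (-1) := by
  have h := hgood.nG_simple_sq (F := F) (i := 1) (by rw [hk]; norm_num)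
  rw [simple_val.2] at h
  rw [nn_one, h, hh]
  have h1 : hG chevG2 F 7 1 = 1 := by
    have := hgood.hG_mul (F := F) (r := 7) (lt12 (by norm_num)) one_ne_zero one_ne_zero
    rw [mul_one] at this; exact mul_eq_left.1 this
  rw [h1, one_mul]

theorem hh_conj_x {a b : F} (ha : a ≠ 0) (hb : b ≠ 0) {s : ℕ} (hs : s < 12) (u : F) :
    hh a b * xg chevG2 F s u * (hh a b)⁻¹ = xg chevG2 F s (a ^ chevG2.cartan 0 s * b ^ chevG2.cartan 1 s * u) := by
  have e7 := fun v => hgood.hG_mul_xg (F := F) (i := 0) (by rw [hk]; norm_num) (lt12 hs) ha v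
  have e6 := fun v => hgood.hG_mul_xg (F := F) (i := 1) (by rw [hk]; norm_num) (lt12 hs) hb v
  rw [simple_val.1] at e7
  rw [simple_val.2] at e6
  rw [mul_inv_eq_iff_eq_mul, hh, mul_assoc, e6, ← mul_assoc, e7, mul_assoc, mul_assoc]

theorem nw_conj_x (l : List (Fin chevG2.rank)) (s : Fin chevG2.nroots) :
    ∃ e : F, e * e = 1 ∧ ∀ u : F, (T F).nw l * xg chevG2 F s.val u * ((T F).nw l)⁻¹ =
      xg chevG2 F ((T F).wl l s).val (e * u) := by
  induction l with
  | nil => exact ⟨1, one_mul 1, fun u => by simp⟩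
  | cons j l ih =>
    obtain ⟨e, he, hx⟩ := ih
    obtain ⟨η, hη, hηx⟩ := hgood.exists_sign_xg (F := F) j.2
    set r := (T F).wl l s
    refine ⟨η r.val * e, by rw [mul_mul_mul_comm, (hη _ r.2).1, he, one_mul], fun u => ?_⟩
    have hnn : (T F).nn j = nG chevG2 F (chevG2.simple j.val) 1 :=
      (isChevData (F := F) G2.good BNSetup.facts_chevG2).nn_eq j
    rw [RootBN.Data.nw_cons, RootBN.Data.wl_cons, Equiv.Perm.mul_apply, BNSetup.data_refl, hnn,
      show nG chevG2 F (chevG2.simple j.val) 1 * (T F).nw l * xg chevG2 F s.val u *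
          (nG chevG2 F (chevG2.simple j.val) 1 * (T F).nw l)⁻¹ =
        nG chevG2 F (chevG2.simple j.val) 1 * ((T F).nw l * xg chevG2 F s.val u * ((T F).nw l)⁻¹) *
          (nG chevG2 F (chevG2.simple j.val) 1)⁻¹ by group,
      hx, hηx _ r.2, mul_inv_cancel_right, mul_assoc]

/-! ### SL₂ -/

theorem sl_hom_ext {M : Type*} [Group M] {f g : SL(2, F) →* M} (hu : ∀ t, f (upperSL t) = g (upperSL t))
    (hl : ∀ t, f (lowerSL t) = g (lowerSL t)) (x : SL(2, F)) : f x = g x := by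
  have hflip : (flipSL : SL(2, F)) = upperSL 1 * lowerSL (-1) * upperSL 1 := by
    apply Subtype.ext
    simp only [Matrix.SpecialLinearGroup.coe_mul]
    ext i j; fin_cases i <;> fin_cases j <;>
      simp [coe_lowerSL, coe_upperSL, coe_flipSL, Matrix.mul_apply, Fin.sum_univ_two]
  refine (show Subgroup.closure (Set.range (upperSL (F := F)) ∪ {flipSL}) ≤ MonoidHom.eqLocus f g from
    (Subgroup.closure_le _).2 ?_) (eq_upper_torus_lower x)
  rintro _ (⟨t, rfl⟩ | rfl)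
  · exact hu t
  · show f flipSL = g flipSL
    rw [hflip, map_mul, map_mul, map_mul, map_mul, hu, hl]

/-- Conjugation of SL₂ by an invertible matrix. -/
def conjSL (d d' : Matrix (Fin 2) (Fin 2) F) (h : d * d' = 1) (h' : d' * d = 1) : SL(2, F) →* SL(2, F) where
  toFun g := ⟨d * g.1 * d', by
    rw [Matrix.det_mul, Matrix.det_mul, g.2, mul_one, ← Matrix.det_mul, h, Matrix.det_one]⟩
  map_one' := Subtype.ext (by simp [h])
  map_mul' g g' := Subtype.ext (by
    show d * (g * g' : SL(2, F)).1 * d' = (d * g.1 * d') * (d * g'.1 * d')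
    rw [Matrix.SpecialLinearGroup.coe_mul]
    simp only [mul_assoc]
    rw [← mul_assoc d' d, h', one_mul])

theorem coe_conjSL (d d' : Matrix (Fin 2) (Fin 2) F) (h : d * d' = 1) (h' : d' * d = 1) (g : SL(2, F)) :
    ((conjSL d d' h h' g : SL(2, F)) : Matrix (Fin 2) (Fin 2) F) = d * g.1 * d' := rfl

/-- `n(a)` in SL₂. -/
noncomputable def nSL (a : F) : SL(2, F) := upperSL a * lowerSL (-a⁻¹) * upperSL a

theorem coe_nSL {a : F} (ha : a ≠ 0) : ((nSL a : SL(2, F)) : Matrix (Fin 2) (Fin 2) F) = !![0, a; -a⁻¹, 0] := by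
  simp only [nSL, Matrix.SpecialLinearGroup.coe_mul, coe_upperSL, coe_lowerSL]
  ext i j; fin_cases i <;> fin_cases j <;> simp [Matrix.mul_apply, Fin.sum_univ_two, ha]

theorem exists_phi {r : ℕ} (hr : r < 12) : ∃ φ : SL(2, F) →* GL chevG2.Idx F,
    (∀ t, φ (upperSL t) = xg chevG2 F r t) ∧ (∀ t, φ (lowerSL t) = xg chevG2 F (chevG2.neg r) t) ∧
      (∀ a, φ (nSL a) = nG chevG2 F r a) ∧ ∀ g, φ g ∈ chevG2.group F := by
  obtain ⟨φ, h1, h2⟩ := hgood.exists_sl2_hom (F := F) (lt12 hr)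
  refine ⟨φ, h1, h2, fun a => by rw [nSL, map_mul, map_mul, h1, h2, nG_eq], fun g => ?_⟩
  refine (show φ.range ≤ chevG2.group F from ?_) ⟨g, rfl⟩
  rw [hgood.range_sl2_hom h1 h2]
  refine sup_le ?_ ?_ <;>
  · intro x hx
    obtain ⟨t, rfl⟩ := hgood.mem_rootSubgroup_iff.1 hx
    exact hgood.xg_mem_group _ _

theorem phi_conj {φ : SL(2, F) →* GL chevG2.Idx F} {θ : SL(2, F) →* SL(2, F)} {e : GL chevG2.Idx F}
    (hu : ∀ t, e * φ (upperSL t) * e⁻¹ = φ (θ (upperSL t)))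
    (hl : ∀ t, e * φ (lowerSL t) * e⁻¹ = φ (θ (lowerSL t))) (g : SL(2, F)) : e * φ g * e⁻¹ = φ (θ g) :=
  sl_hom_ext (f := (MulAut.conj e).toMonoidHom.comp φ) (g := φ.comp θ) hu hl g

end Cfsg.Agent.G2OddInvol
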