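/-
`G₂(q)`, `q` odd, has a single class of involutions.
-/
import Cfsg.Agent.Lib.G2OddInvol.Basic

set_option autoImplicit false
set_option linter.unusedSectionVars false
set_option maxRecDepth 100000

namespace Cfsg.Agent.G2OddInvol

open Cfsg.Lie Cfsg.Agent.Chev
open scoped MatrixGroups

variable {F : Type*} [Field F]

/-- Conjugacy by an element of the group. -/
def Cj (a b : GL chevG2.Idx F) : Prop := ∃ g ∈ chevG2.group F, g * a * g⁻¹ = b

theorem Cj.symm {a b : GL chevG2.Idx F} (h : Cj a b) : Cj b a := by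
  obtain ⟨g, hg, rfl⟩ := h
  exact ⟨g⁻¹, Subgroup.inv_mem _ hg, by group⟩

theorem Cj.trans {a b c : GL chevG2.Idx F} (h : Cj a b) (h' : Cj b c) : Cj a c := by
  obtain ⟨g, hg, rfl⟩ := h
  obtain ⟨g', hg', rfl⟩ := h'
  exact ⟨g' * g, Subgroup.mul_mem _ hg' hg, by group⟩

theorem Cj.invol {a b : GL chevG2.Idx F} (h : Cj a b) (ha : a * a = 1) (ha1 : a ≠ 1) : b * b = 1 ∧ b ≠ 1 := by
  obtain ⟨g, -, rfl⟩ := h
  refine ⟨?_, fun e => ha1 ?_⟩
  · rw [show g * a * g⁻¹ * (g * a * g⁻¹) = g * (a * a) * g⁻¹ by group, ha, mul_one, mul_inv_cancel]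
  · have := congrArg (fun x => g⁻¹ * x * g) e
    simpa [mul_assoc] using this

theorem mem_group_of_mem_N {m : GL chevG2.Idx F} (hm : m ∈ (T F).N) : m ∈ chevG2.group F :=
  (BNSetup.monomial_le_group G2.good BNSetup.facts_chevG2) ((BNSetup.data_N G2.good BNSetup.facts_chevG2).le hm)

/-- The base point. -/
noncomputable def base : GL chevG2.Idx F := hh (-1) (-1)

/-- Every involution of `H w` is conjugate to the base point. -/
def Good' (F : Type*) [Field F] (l : List ℕ) : Prop :=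
  ∀ h ∈ (T F).H, (h * (T F).nw (l.map ki)) * (h * (T F).nw (l.map ki)) = 1 →
    h * (T F).nw (l.map ki) ≠ 1 → Cj (h * (T F).nw (l.map ki)) base

variable (h2 : (2 : F) ≠ 0)
include h2

theorem good_nil : Good' F [] := by
  intro h hh' hsq hne
  simp only [List.map_nil, RootBN.Data.nw_nil, mul_one] at hsq hne ⊢
  obtain ⟨a, b, ha, hb, rfl⟩ := exists_hh hh'
  rw [hh_mul ha hb ha hb] at hsq
  obtain ⟨ea, eb⟩ := hh_eq_one (mul_ne_zero ha ha) (mul_ne_zero hb hb) hsq
  have m1 : (-1 : F) ≠ 0 := neg_ne_zero.2 one_ne_zero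
  rcases mul_self_eq_one_iff.1 ea with rfl | rfl <;> rcases mul_self_eq_one_iff.1 eb with rfl | rfl
  · exact absurd hh_one hne
  · exact ⟨(T F).nn (ki 0), mem_group_of_mem_N (RootBN.Data.nn_mem_N _), by
      rw [nn_zero_conj one_ne_zero m1, inv_one, one_mul]; rfl⟩
  · exact ⟨(T F).nn (ki 1), mem_group_of_mem_N (RootBN.Data.nn_mem_N _), by
      rw [nn_one_conj m1 one_ne_zero, inv_one, mul_one]; norm_num [base]⟩
  · exact ⟨1, one_mem _, by simp [base]⟩

/-- `e n_p(a)` is conjugate to `e` if `e` acts on `X_{±p}` by `-1`. -/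
theorem cj_mul_nG {r : ℕ} (hr : r < 12) {e : GL chevG2.Idx F}
    (hp : ∀ u, e * xg chevG2 F r u * e⁻¹ = xg chevG2 F r (-u))
    (hm : ∀ u, e * xg chevG2 F (chevG2.neg r) u * e⁻¹ = xg chevG2 F (chevG2.neg r) (-u)) {a : F} (ha : a ≠ 0) :
    Cj (e * nG chevG2 F r a) e := by
  obtain ⟨φ, h1, hl, h3, hmem⟩ := exists_phi (F := F) hr
  have hd : (!![1, 0; 0, -1] : Matrix (Fin 2) (Fin 2) F) * !![1, 0; 0, -1] = 1 := by
    ext i j; fin_cases i <;> fin_cases j <;> simp [Matrix.mul_apply, Fin.sum_univ_two]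
  let θ := conjSL _ _ hd hd
  have hθu : ∀ t, θ (upperSL t) = upperSL (-t) := fun t => Subtype.ext (by
    rw [coe_conjSL, coe_upperSL]
    ext i j; fin_cases i <;> fin_cases j <;> simp [coe_upperSL, Matrix.mul_apply, Fin.sum_univ_two])
  have hθl : ∀ t, θ (lowerSL t) = lowerSL (-t) := fun t => Subtype.ext (by
    rw [coe_conjSL, coe_lowerSL]
    ext i j; fin_cases i <;> fin_cases j <;> simp [coe_lowerSL, Matrix.mul_apply, Fin.sum_univ_two])
  have hθ := phi_conj (φ := φ) (θ := θ) (e := e) (fun t => by rw [hθu, h1, h1, hp])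
    (fun t => by rw [hθl, hl, hl, hm])
  have hθθ : ∀ g, θ (θ g) = g := fun g => Subtype.ext (by
    rw [coe_conjSL, coe_conjSL]
    simp only [← mul_assoc, hd, one_mul]
    rw [mul_assoc, hd, mul_one])
  let g : SL(2, F) := ⟨!![a, -(2 : F)⁻¹; 1, (2 * a)⁻¹], by
    rw [Matrix.det_fin_two_of]
    field_simp
    ring⟩
  have hg : nSL a * g = θ g := Subtype.ext (by
    rw [Matrix.SpecialLinearGroup.coe_mul, coe_nSL ha, coe_conjSL]
    ext i j; fin_cases i <;> fin_cases j <;> simp [g, Matrix.mul_apply, Fin.sum_univ_two] <;> field_simp)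
  refine ⟨(φ g)⁻¹, Subgroup.inv_mem _ (hmem g), ?_⟩
  have key : e * φ (θ g) = φ g * e := by
    have := hθ (θ g)
    rw [hθθ, mul_inv_eq_iff_eq_mul] at this
    exact this
  rw [inv_inv, mul_assoc, ← h3, mul_assoc e, ← map_mul, hg, key, inv_mul_cancel_left]

theorem good_zero : Good' F [0] := by
  intro h hh' hsq hne
  simp only [List.map_cons, List.map_nil, RootBN.Data.nw_cons, RootBN.Data.nw_nil, mul_one] at hsq hne ⊢
  obtain ⟨a, b, ha, hb, rfl⟩ := exists_hh hh'
  have hm1 : (-1 : F) ≠ 0 := neg_ne_zero.2 one_ne_zero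
  have e : hh a b * (T F).nn (ki 0) * (hh a b * (T F).nn (ki 0))
      = hh a b * ((T F).nn (ki 0) * hh a b * ((T F).nn (ki 0))⁻¹) * ((T F).nn (ki 0) * (T F).nn (ki 0)) := by group
  rw [e, nn_zero_conj ha hb, nn_zero_sq, hh_mul ha hb (mul_ne_zero (inv_ne_zero ha) hb) hb,
    hh_mul (mul_ne_zero ha (mul_ne_zero (inv_ne_zero ha) hb)) (mul_ne_zero hb hb) hm1 one_ne_zero] at hsq
  obtain ⟨e1, -⟩ := hh_eq_one (by simp [ha, hb]) (by simp [hb]) hsq
  have hb1 : b = -1 := by
    rw [← mul_assoc, mul_inv_cancel₀ ha, one_mul] at e1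
    linear_combination -e1
  subst hb1
  have hE : hh a (-1 : F) * (T F).nn (ki 0) = hh 1 (-1) * nG chevG2 F 7 a := by
    have hna : nG chevG2 F 7 a = hG chevG2 F 7 a * nG chevG2 F 7 1 := by
      rw [hG_eq, mul_assoc, ← hgood.nG_inv (lt12 (by norm_num)) one_ne_zero, inv_mul_cancel, mul_one]
    have h71 : hG chevG2 F 7 1 = 1 := by
      have := hgood.hG_mul (F := F) (r := 7) (lt12 (by norm_num)) one_ne_zero one_ne_zero
      rw [mul_one] at this; exact mul_eq_left.1 this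
    rw [nn_zero, hna, ← mul_assoc]
    congr 1
    unfold hh
    rw [h71, one_mul, hgood.hG_comm (lt12 (by norm_num)) (lt12 (by norm_num)) hm1 ha]
  rw [hE] at hne ⊢
  have hp : ∀ s, s = 7 ∨ s = chevG2.neg 7 → ∀ u : F,
      hh 1 (-1) * xg chevG2 F s u * (hh 1 (-1))⁻¹ = xg chevG2 F s (-u) := by
    rintro s (rfl | rfl) u
    · rw [hh_conj_x one_ne_zero hm1 (by norm_num), cartan_val.2.1]
      simp [inv_neg]
    · rw [neg_val.1, hh_conj_x one_ne_zero hm1 (by norm_num), cartan_val.2.2.2.2.2.1]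
      simp
  refine (cj_mul_nG h2 (r := 7) (by norm_num) (hp _ (Or.inl rfl)) (hp _ (Or.inr rfl)) ha).trans ?_
  have := good_nil h2 (hh 1 (-1)) (hh_mem one_ne_zero hm1)
  simp only [List.map_nil, RootBN.Data.nw_nil, mul_one] at this
  refine this (by rw [hh_mul one_ne_zero hm1 one_ne_zero hm1, mul_one, neg_one_mul, neg_neg, hh_one]) fun h1 => ?_
  have := (hh_eq_one one_ne_zero hm1 h1).2
  exact h2 (by linear_combination -this)

theorem good_one : Good' F [1] := by
  intro h hh' hsq hne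
  simp only [List.map_cons, List.map_nil, RootBN.Data.nw_cons, RootBN.Data.nw_nil, mul_one] at hsq hne ⊢
  obtain ⟨a, b, ha, hb, rfl⟩ := exists_hh hh'
  have hm1 : (-1 : F) ≠ 0 := neg_ne_zero.2 one_ne_zero
  have e : hh a b * (T F).nn (ki 1) * (hh a b * (T F).nn (ki 1))
      = hh a b * ((T F).nn (ki 1) * hh a b * ((T F).nn (ki 1))⁻¹) * ((T F).nn (ki 1) * (T F).nn (ki 1)) := by group
  have hc : a ^ 3 * b⁻¹ ≠ 0 := mul_ne_zero (pow_ne_zero _ ha) (inv_ne_zero hb)
  rw [e, nn_one_conj ha hb, nn_one_sq, hh_mul ha hb ha hc,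
    hh_mul (mul_ne_zero ha ha) (mul_ne_zero hb hc) one_ne_zero hm1] at hsq
  obtain ⟨e1, e2⟩ := hh_eq_one (by simp [ha]) (by simp [ha, hb]) hsq
  have ha1 : a = -1 := by
    rw [mul_one] at e1
    field_simp at e2
    linear_combination (-a) * e1 - e2
  subst ha1
  have hE : hh (-1 : F) b * (T F).nn (ki 1) = hh (-1) 1 * nG chevG2 F 6 b := by
    have hna : nG chevG2 F 6 b = hG chevG2 F 6 b * nG chevG2 F 6 1 := by
      rw [hG_eq, mul_assoc, ← hgood.nG_inv (lt12 (by norm_num)) one_ne_zero, inv_mul_cancel, mul_one]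
    have h61 : hG chevG2 F 6 1 = 1 := by
      have := hgood.hG_mul (F := F) (r := 6) (lt12 (by norm_num)) one_ne_zero one_ne_zero
      rw [mul_one] at this; exact mul_eq_left.1 this
    rw [nn_one, hna, ← mul_assoc]
    congr 1
    unfold hh
    rw [h61, mul_one]
  rw [hE] at hne ⊢
  have hp : ∀ s, s = 6 ∨ s = chevG2.neg 6 → ∀ u : F,
      hh (-1) 1 * xg chevG2 F s u * (hh (-1) 1)⁻¹ = xg chevG2 F s (-u) := by
    rintro s (rfl | rfl) u
    · rw [hh_conj_x hm1 one_ne_zero (by norm_num), cartan_val.2.2.1]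
      norm_num [zpow_neg]
    · rw [neg_val.2.1, hh_conj_x hm1 one_ne_zero (by norm_num), cartan_val.2.2.2.2.2.2.1]
      norm_num
  refine (cj_mul_nG h2 (r := 6) (by norm_num) (hp _ (Or.inl rfl)) (hp _ (Or.inr rfl)) hb).trans ?_
  have := good_nil h2 (hh (-1) 1) (hh_mem hm1 one_ne_zero)
  simp only [List.map_nil, RootBN.Data.nw_nil, mul_one] at this
  refine this (by rw [hh_mul hm1 one_ne_zero hm1 one_ne_zero, mul_one, neg_one_mul, neg_neg, hh_one]) fun h1 => ?_
  have := (hh_eq_one hm1 one_ne_zero h1).1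
  exact h2 (by linear_combination -this)

theorem good_step {i : ℕ} {l : List ℕ} (hl : Good' F l) : Good' F (i :: (l ++ [i])) := by
  intro h hh' hsq hne
  set n := (T F).nn (ki i) with hn'
  set w := (T F).nw (l.map ki) with hw
  have hmap : (T F).nw ((i :: (l ++ [i])).map ki) = n * (w * n) := by
    rw [List.map_cons, List.map_append, RootBN.Data.nw_cons, RootBN.Data.nw_append, List.map_cons,
      List.map_nil, RootBN.Data.nw_cons, RootBN.Data.nw_nil, mul_one]
  rw [hmap] at hsq hne ⊢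
  set h' := (n⁻¹ * h * n) * (w * (n * n) * w⁻¹) with hdef
  have hh2 : h' ∈ (T F).H := (T F).H.mul_mem (RootBN.Data.nn_inv_conj_H (ax F) hh')
    (RootBN.Data.nw_H (ax F) _ ((ax F).nn_sq _))
  have hc : Cj (h * (n * (w * n))) (h' * w) :=
    ⟨n⁻¹, Subgroup.inv_mem _ (mem_group_of_mem_N (RootBN.Data.nn_mem_N _)), by rw [hdef]; group⟩
  obtain ⟨e1, e2⟩ := hc.invol hsq hne
  exact hc.trans (hl h' hh2 e1 e2)

theorem good_low : ∀ l ∈ low, Good' F l := by
  intro l hl
  simp only [low, List.mem_cons, List.not_mem_nil, or_false] at hl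
  rcases hl with rfl | rfl | rfl | rfl | rfl | rfl | rfl
  · exact good_nil h2
  · exact good_zero h2
  · exact good_one h2
  · exact good_step h2 (l := [1]) (good_one h2)
  · exact good_step h2 (l := [0]) (good_zero h2)
  · exact good_step h2 (l := [1, 0, 1]) (good_step h2 (l := [0]) (good_zero h2))
  · exact good_step h2 (l := [0, 1, 0]) (good_step h2 (l := [1]) (good_one h2))

/-- An involution of `N` whose image in the Weyl group is not the longest element. -/
theorem cj_of_ne_longest {m : GL chevG2.Idx F} (hm : m ∈ (T F).N) (hsq : m * m = 1) (hne : m ≠ 1)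
    (hw : ¬ (T F).Acts m ((T F).wl (W0.map ki))) : Cj m base := by
  obtain ⟨h, hh', l, hl, rfl⟩ := exists_normal hm
  have hact := RootBN.Data.acts_mul_nw (ax F) hh' (l.map ki)
  rcases words_invol l hl with rfl | hlow | ⟨r, hr, hr'⟩
  · exact absurd hact hw
  · exact good_low h2 l hlow h hh' hsq hne
  · exfalso
    have h1 : (T F).Acts (h * (T F).nw (l.map ki) * (h * (T F).nw (l.map ki))) 1 := by
      rw [hsq]; exact RootBN.Data.acts_one
    have e := congrArg (fun σ : Equiv.Perm (Fin chevG2.nroots) => (σ ⟨r, lt12 hr⟩).val)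
      (RootBN.Data.acts_unique (ax F) (hact.mul hact) h1)
    simp only [Equiv.Perm.mul_apply, Equiv.Perm.one_apply, val_wl l (words_lt l hl)] at e
    exact hr' e

/-! ### The longest element -/

omit h2 in
theorem flip_back {n : GL chevG2.Idx F} (hn' : n * n = 1) {r s : ℕ} {k : F} (hk : k ≠ 0)
    (h : ∀ u, n * xg chevG2 F r u * n⁻¹ = xg chevG2 F s (k * u)) (u : F) :
    n * xg chevG2 F s u * n⁻¹ = xg chevG2 F r (k⁻¹ * u) := by
  have h' := h (k⁻¹ * u)
  rw [← mul_assoc, mul_inv_cancel₀ hk, one_mul] at h'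
  rw [← h', inv_eq_of_mul_eq_one_right hn',
    show n * (n * xg chevG2 F r (k⁻¹ * u) * n) * n = n * n * xg chevG2 F r (k⁻¹ * u) * (n * n) by group,
    hn', one_mul, mul_one]

omit h2 in
/-- Twisting an involution by the SL₂ of a root it negates. -/
theorem cj_twist {n : GL chevG2.Idx F} (hn' : n * n = 1) {r : ℕ} {φ : SL(2, F) →* GL chevG2.Idx F}
    (hu : ∀ t, φ (upperSL t) = xg chevG2 F r t) (hl : ∀ t, φ (lowerSL t) = xg chevG2 F (chevG2.neg r) t)
    (hmem : ∀ g, φ g ∈ chevG2.group F) {k : F} (hk : k ≠ 0)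
    (h : ∀ u, n * xg chevG2 F r u * n⁻¹ = xg chevG2 F (chevG2.neg r) (k * u)) {g R : SL(2, F)}
    (hgR : !![0, 1; k, 0] * g.1 * !![0, k⁻¹; 1, 0] * R.1 = g.1) : Cj n (n * φ R) := by
  have hd : (!![0, 1; k, 0] : Matrix (Fin 2) (Fin 2) F) * !![0, k⁻¹; 1, 0] = 1 := by
    ext i j; fin_cases i <;> fin_cases j <;> simp [Matrix.mul_apply, Fin.sum_univ_two, hk]
  have hd' : (!![0, k⁻¹; 1, 0] : Matrix (Fin 2) (Fin 2) F) * !![0, 1; k, 0] = 1 := by
    ext i j; fin_cases i <;> fin_cases j <;> simp [Matrix.mul_apply, Fin.sum_univ_two, hk]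
  let θ := conjSL _ _ hd hd'
  have hθu : ∀ t, θ (upperSL t) = lowerSL (k * t) := fun t => Subtype.ext (by
    rw [coe_conjSL, coe_lowerSL]
    ext i j; fin_cases i <;> fin_cases j <;> simp [coe_upperSL, Matrix.mul_apply, Fin.sum_univ_two, hk])
  have hθl : ∀ t, θ (lowerSL t) = upperSL (k⁻¹ * t) := fun t => Subtype.ext (by
    rw [coe_conjSL, coe_upperSL]
    ext i j; fin_cases i <;> fin_cases j <;> simp [coe_lowerSL, Matrix.mul_apply, Fin.sum_univ_two, hk, mul_comm])
  have hθ := phi_conj (φ := φ) (θ := θ) (e := n) (fun t => by rw [hθu, hu, hl, h])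
    (fun t => by rw [hθl, hu, hl, flip_back hn' hk h])
  have hg : θ g * R = g := Subtype.ext (by rw [Matrix.SpecialLinearGroup.coe_mul, coe_conjSL]; exact hgR)
  refine ⟨(φ g)⁻¹, Subgroup.inv_mem _ (hmem g), ?_⟩
  have e : n * φ (θ g) = φ g * n := by
    rw [← hθ g, inv_eq_of_mul_eq_one_right hn', ← mul_assoc, ← mul_assoc, hn', one_mul]
  have e2 : n * φ g = φ g * (n * φ R) := by
    calc n * φ g = n * φ (θ g * R) := by rw [hg]
      _ = φ g * (n * φ R) := by rw [map_mul, ← mul_assoc, e, mul_assoc]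
  rw [inv_inv, mul_assoc, e2, inv_mul_cancel_left]

omit h2 in
theorem w0_mul_refl_ne (i : Fin chevG2.rank) :
    (T F).wl (W0.map ki) * (T F).refl i ≠ (T F).wl (W0.map ki) := by
  intro e
  have hi : i.val < 2 := lt_of_lt_of_eq i.2 hk
  obtain ⟨r, hr, hne⟩ := w0_facts.2.2 i.val hi
  have e' : (T F).wl ((W0 ++ [i.val]).map ki) = (T F).wl (W0.map ki) := by
    have hki : ki i.val = i := Fin.ext (Nat.mod_eq_of_lt hi)
    rw [List.map_append, RootBN.Data.wl_append, List.map_cons, List.map_nil, hki, RootBN.Data.wl_cons,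
      RootBN.Data.wl_nil, mul_one]
    exact e
  have h1 := congrArg (fun σ : Equiv.Perm (Fin chevG2.nroots) => (σ ⟨r, lt12 hr⟩).val) e'
  rw [val_wl _ (by intro x hx; simp [W0] at hx; omega), val_wl _ (by intro x hx; simp [W0] at hx; omega)] at h1
  exact hne h1

omit h2 in
theorem w0_val (r : Fin chevG2.nroots) : ((T F).wl (W0.map ki) r).val = 11 - r.val := by
  rw [val_wl _ (by intro x hx; simp [W0] at hx; omega)]
  exact w0_facts.1 _ (hn ▸ r.2)

/-- An involution acting as the longest element and by a square on some fundamental root. -/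
theorem cj_of_square {n : GL chevG2.Idx F} (hN : n ∈ (T F).N) (hact : (T F).Acts n ((T F).wl (W0.map ki)))
    (hsq : n * n = 1) (hne : n ≠ 1) (i : Fin chevG2.rank) {c : F} (hc : c ≠ 0)
    (h : ∀ u, n * xg chevG2 F (chevG2.simple i.val) u * n⁻¹ =
      xg chevG2 F (chevG2.neg (chevG2.simple i.val)) (c * c * u)) : Cj n base := by
  obtain ⟨φ, h1, hl, h3, hmem⟩ := exists_phi (F := F) (r := chevG2.simple i.val) (hn ▸ hgood.simple_lt i.2)
  have hk : c * c ≠ 0 := mul_ne_zero hc hc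
  let g : SL(2, F) := ⟨!![1, -(2 * c)⁻¹; c, 2⁻¹], by
    rw [Matrix.det_fin_two_of]
    field_simp
    ring⟩
  have hR : Cj n (n * φ (nSL (-c⁻¹))) := cj_twist hsq h1 hl hmem hk h (g := g) (by
    rw [coe_nSL (neg_ne_zero.2 (inv_ne_zero hc))]
    ext a b; fin_cases a <;> fin_cases b <;> simp [g, Matrix.mul_apply, Fin.sum_univ_two] <;> field_simp)
  refine hR.trans ?_
  rw [h3]
  set h' := hG chevG2 F (chevG2.simple i.val) (-c⁻¹) with hdef
  have hne' : (-c⁻¹ : F) ≠ 0 := neg_ne_zero.2 (inv_ne_zero hc)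
  have hH : h' ∈ (T F).H :=
    Subgroup.subset_closure ⟨_, _, hgood.simple_lt i.2, hne', hgood.coe_hG _ _⟩
  have hnG : nG chevG2 F (chevG2.simple i.val) (-c⁻¹) = h' * (T F).nn i := by
    rw [hdef, hG_eq, mul_assoc, (isChevData (F := F) G2.good BNSetup.facts_chevG2).nn_eq,
      ← hgood.nG_inv (hgood.simple_lt i.2) one_ne_zero, inv_mul_cancel, mul_one]
  rw [h3, hnG] at hR
  obtain ⟨e1, e2⟩ := hR.invol hsq hne
  rw [hnG]
  refine cj_of_ne_longest h2 ((T F).N.mul_mem hN ((T F).N.mul_mem (RootBN.Data.H_le_N hH)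
    (RootBN.Data.nn_mem_N i))) e1 e2 fun hW => ?_
  have hact2 := hact.mul ((RootBN.Data.acts_H (ax F) hH).mul (RootBN.Data.acts_nn (ax F) i))
  rw [one_mul] at hact2
  exact w0_mul_refl_ne i (RootBN.Data.acts_unique (ax F) hact2 hW)

omit h2 in
theorem isSquare_sign {e : F} (he : e * e = 1) (hm1 : IsSquare (-1 : F)) : IsSquare e := by
  rcases mul_self_eq_one_iff.1 he with rfl | rfl
  · exact IsSquare.one
  · exact hm1

omit h2 in
theorem isSquare_mul_of_not [Fintype F] {a b : F} (ha : ¬ IsSquare a) (hb : ¬ IsSquare b) : IsSquare (a * b) := by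
  classical
  have ha0 : a ≠ 0 := fun h => ha (h ▸ IsSquare.zero)
  have hb0 : b ≠ 0 := fun h => hb (h ▸ IsSquare.zero)
  rw [← quadraticChar_one_iff_isSquare (mul_ne_zero ha0 hb0), map_mul,
    quadraticChar_neg_one_iff_not_isSquare.2 ha, quadraticChar_neg_one_iff_not_isSquare.2 hb]
  norm_num

theorem cj_longest [Fintype F] {n : GL chevG2.Idx F} (hN : n ∈ (T F).N)
    (hact : (T F).Acts n ((T F).wl (W0.map ki))) (hsq : n * n = 1) (hne : n ≠ 1) : Cj n base := by
  classical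
  have hH := RootBN.Data.mul_inv_mem_H (ax F) hN (RootBN.Data.nw_mem_N _) hact (RootBN.Data.acts_nw (ax F) _)
  obtain ⟨a, b, ha, hb, hab⟩ := exists_hh hH
  have hn_eq : n = hh a b * (T F).nw (W0.map ki) := by rw [← hab]; group
  have hcoef : ∀ s, (hs : s < 12) → ∃ e : F, e * e = 1 ∧ ∀ u, n * xg chevG2 F s u * n⁻¹ =
      xg chevG2 F (11 - s) (a ^ chevG2.cartan 0 (11 - s) * b ^ chevG2.cartan 1 (11 - s) * e * u) := by
    intro s hs
    obtain ⟨e, he, hx⟩ := nw_conj_x (F := F) (W0.map ki) ⟨s, lt12 hs⟩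
    refine ⟨e, he, fun u => ?_⟩
    have hx' := hx u
    rw [w0_val] at hx'
    rw [hn_eq, show hh a b * (T F).nw (W0.map ki) * xg chevG2 F s u * (hh a b * (T F).nw (W0.map ki))⁻¹ =
      hh a b * ((T F).nw (W0.map ki) * xg chevG2 F s u * ((T F).nw (W0.map ki))⁻¹) * (hh a b)⁻¹ by group,
      hx', hh_conj_x ha hb (by omega), mul_assoc _ e u]
  obtain ⟨e7, he7, h7⟩ := hcoef 7 (by norm_num)
  obtain ⟨e6, he6, h6⟩ := hcoef 6 (by norm_num)
  obtain ⟨e8, he8, h8⟩ := hcoef 8 (by norm_num)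
  norm_num only [cartan_val, zpow_neg_one] at h7 h6 h8
  have hne0 : ∀ {e : F}, e * e = 1 → e ≠ 0 := fun he h0 => by rw [h0, mul_zero] at he; exact zero_ne_one he
  set k7 := a ^ (-2 : ℤ) * b ^ (1 : ℤ) * e7 with hk7
  set k6 := a ^ (3 : ℤ) * b ^ (-2 : ℤ) * e6 with hk6
  have hk70 : k7 ≠ 0 := mul_ne_zero (mul_ne_zero (zpow_ne_zero _ ha) (zpow_ne_zero _ hb)) (hne0 he7)
  have hk60 : k6 ≠ 0 := mul_ne_zero (mul_ne_zero (zpow_ne_zero _ ha) (zpow_ne_zero _ hb)) (hne0 he6)
  have by7 : IsSquare k7 → Cj n base := by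
    rintro ⟨c, hc⟩
    have hc0 : c ≠ 0 := fun h0 => hk70 (by rw [hc, h0, mul_zero])
    refine cj_of_square h2 hN hact hsq hne (ki 0) hc0 fun u => ?_
    show n * xg chevG2 F (chevG2.simple 0) u * n⁻¹ = xg chevG2 F (chevG2.neg (chevG2.simple 0)) _
    rw [simple_val.1, neg_val.1, ← hc]
    exact h7 u
  have by6 : IsSquare k6 → Cj n base := by
    rintro ⟨c, hc⟩
    have hc0 : c ≠ 0 := fun h0 => hk60 (by rw [hc, h0, mul_zero])
    refine cj_of_square h2 hN hact hsq hne (ki 1) hc0 fun u => ?_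
    show n * xg chevG2 F (chevG2.simple 1) u * n⁻¹ = xg chevG2 F (chevG2.neg (chevG2.simple 1)) _
    rw [simple_val.2, neg_val.2.1, ← hc]
    exact h6 u
  by_cases hm1 : IsSquare (-1 : F)
  · by_cases hbs : IsSquare b
    · refine by7 ?_
      rw [hk7, zpow_one, show (a ^ (-2 : ℤ)) = a⁻¹ * a⁻¹ by rw [zpow_neg, ← mul_inv]; norm_cast; rw [sq]]
      exact ((IsSquare.mul_self _).mul hbs).mul (isSquare_sign he7 hm1)
    · by_cases has : IsSquare a
      · refine by6 ?_
        rw [hk6, show a ^ (3 : ℤ) * b ^ (-2 : ℤ) = a * ((a * b⁻¹) * (a * b⁻¹)) by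
          rw [zpow_neg]; norm_cast; field_simp]
        exact (has.mul (IsSquare.mul_self _)).mul (isSquare_sign he6 hm1)
      · have hab' := isSquare_mul_of_not has hbs
        set k8 := a ^ (1 : ℤ) * b ^ (-1 : ℤ) * e8 with hk8
        obtain ⟨η, hη, hηx⟩ := hgood.exists_sign_xg (F := F) (i := 1) (by rw [hk]; norm_num)
        have hη8 := hη 8 (lt12 (by norm_num))
        have hη3 := hη 3 (lt12 (by norm_num))
        set n2 := (T F).nn (ki 1) * n * ((T F).nn (ki 1))⁻¹ with hn2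
        have hk8s : IsSquare (η 3 * (k8 * η 8)) := by
          refine (isSquare_sign hη3.1 hm1).mul (IsSquare.mul ?_ (isSquare_sign hη8.1 hm1))
          rw [hk8, zpow_one, zpow_neg_one, show a * b⁻¹ = a * b * (b⁻¹ * b⁻¹) by field_simp]
          exact (hab'.mul (IsSquare.mul_self _)).mul (isSquare_sign he8 hm1)
        obtain ⟨c, hc⟩ := hk8s
        have hk80 : η 3 * (k8 * η 8) ≠ 0 := mul_ne_zero (hne0 hη3.1) (mul_ne_zero (mul_ne_zero
          (mul_ne_zero (zpow_ne_zero _ ha) (zpow_ne_zero _ hb)) (hne0 he8)) (hne0 hη8.1))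
        have hc0 : c ≠ 0 := fun h0 => hk80 (by rw [hc, h0, mul_zero])
        have hcj : Cj n n2 := ⟨(T F).nn (ki 1), mem_group_of_mem_N (RootBN.Data.nn_mem_N _), hn2.symm⟩
        obtain ⟨s1, s2⟩ := hcj.invol hsq hne
        refine hcj.trans (cj_of_square h2 ((T F).N.mul_mem ((T F).N.mul_mem (RootBN.Data.nn_mem_N _) hN)
          ((T F).N.inv_mem (RootBN.Data.nn_mem_N _))) ?_ s1 s2 (ki 0) hc0 fun u => ?_)
        · have hA := ((RootBN.Data.acts_nn (ax F) (ki 1)).mul hact).mul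
            (RootBN.Data.acts_nn (ax F) (ki 1)).inv
          have e : (T F).refl (ki 1) * (T F).wl (W0.map ki) * ((T F).refl (ki 1))⁻¹ = (T F).wl (W0.map ki) := by
            have hinv : ((T F).refl (ki 1))⁻¹ = (T F).refl (ki 1) :=
              inv_eq_of_mul_eq_one_right (Equiv.ext fun r => (ax F).refl_refl _ r)
            have e' := wl_eq (F := F) (l := [1] ++ W0 ++ [1]) (l' := W0) (by intro x hx; simp [W0] at hx; omega)
              (by intro x hx; simp [W0] at hx; omega) w0_facts.2.1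
            rw [List.map_append, List.map_append, RootBN.Data.wl_append, RootBN.Data.wl_append, List.map_cons,
              List.map_nil, RootBN.Data.wl_cons, RootBN.Data.wl_nil, mul_one] at e'
            rw [hinv]; exact e'
          rw [e] at hA
          exact hA
        · show n2 * xg chevG2 F (chevG2.simple 0) u * n2⁻¹ = xg chevG2 F (chevG2.neg (chevG2.simple 0)) _
          rw [simple_val.1, neg_val.1, ← hc]
          have hnn : (T F).nn (ki 1) = nG chevG2 F (chevG2.simple 1) 1 := by rw [simple_val.2]; exact nn_one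
          have a1 : xg chevG2 F 7 u = (T F).nn (ki 1) * xg chevG2 F 8 (η 8 * u) * ((T F).nn (ki 1))⁻¹ := by
            rw [hnn, hηx 8 (lt12 (by norm_num)), refl_val.2.2.2.2.1, mul_inv_cancel_right, ← mul_assoc, hη8.1,
              one_mul]
          have a2 : ∀ v, (T F).nn (ki 1) * xg chevG2 F 3 v * ((T F).nn (ki 1))⁻¹ = xg chevG2 F 4 (η 3 * v) := by
            intro v
            rw [hnn, hηx 3 (lt12 (by norm_num)), refl_val.2.2.2.2.2, mul_inv_cancel_right]
          rw [a1, hn2]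
          calc _ = (T F).nn (ki 1) * (n * xg chevG2 F 8 (η 8 * u) * n⁻¹) * ((T F).nn (ki 1))⁻¹ := by group
            _ = _ := by
              rw [h8, a2]
              congr 1
              simp only [hk8, zpow_neg_one, zpow_one, pow_one]
              ring
  · by_cases hs7 : IsSquare k7
    · exact by7 hs7
    obtain ⟨φ, p1, pl, p3, pmem⟩ := exists_phi (F := F) (r := 6) (by norm_num)
    obtain ⟨x, y, hxy⟩ : ∃ x y : F, x * x - k6 * (y * y) = -1 := by
      have hchar : ringChar F ≠ 2 := fun hc => h2 (by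
        have := ringChar.Nat.cast_ringChar (R := F)
        rw [hc] at this
        exact_mod_cast this)
      obtain ⟨x, y, hxy⟩ := FiniteField.exists_root_sum_quadratic (R := F)
        (f := Polynomial.X ^ 2 + Polynomial.C 1) (g := Polynomial.C (-k6) * Polynomial.X ^ 2)
        (Polynomial.degree_X_pow_add_C (by norm_num) 1)
        (Polynomial.degree_C_mul_X_pow 2 (neg_ne_zero.2 hk60))
        (FiniteField.odd_card_of_char_ne_two hchar)
      simp at hxy
      exact ⟨x, y, by linear_combination hxy⟩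
    let g : SL(2, F) := ⟨!![x, y; -(k6 * y), -x], by rw [Matrix.det_fin_two_of]; linear_combination -hxy⟩
    have h6' : ∀ u, n * xg chevG2 F 6 u * n⁻¹ = xg chevG2 F (chevG2.neg 6) (k6 * u) := by
      intro u; rw [neg_val.2.1]; exact h6 u
    have hm1' : (-1 : F) ≠ 0 := neg_ne_zero.2 one_ne_zero
    have hR : Cj n (n * φ (nSL (-1) * nSL (-1))) := cj_twist hsq p1 pl pmem hk60 h6' (g := g) (by
      rw [Matrix.SpecialLinearGroup.coe_mul, coe_nSL hm1']
      ext a b; fin_cases a <;> fin_cases b <;>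
        simp [g, Matrix.mul_apply, Fin.sum_univ_two, inv_neg] <;> field_simp)
    have hval : φ (nSL (-1) * nSL (-1)) = hG chevG2 F 6 (-1) := by rw [map_mul, p3, hG_eq]
    rw [hval] at hR
    have h61 : hG chevG2 F 6 (-1) = hh 1 (-1) := by
      have h71 : hG chevG2 F 7 1 = 1 := by
        have := hgood.hG_mul (F := F) (r := 7) (lt12 (by norm_num)) one_ne_zero one_ne_zero
        rw [mul_one] at this; exact mul_eq_left.1 this
      rw [hh, h71, one_mul]
    rw [h61] at hR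
    obtain ⟨s1, s2⟩ := hR.invol hsq hne
    have hks : IsSquare (-k7) := by
      rw [← neg_one_mul]; exact isSquare_mul_of_not hm1 hs7
    obtain ⟨c, hc⟩ := hks
    have hc0 : c ≠ 0 := fun h0 => hk70 (neg_eq_zero.1 (by rw [hc, h0, mul_zero]))
    refine hR.trans (cj_of_square h2 ((T F).N.mul_mem hN (RootBN.Data.H_le_N (hh_mem one_ne_zero hm1'))) ?_
      s1 s2 (ki 0) hc0 fun u => ?_)
    · simpa using hact.mul (RootBN.Data.acts_H (ax F) (hh_mem one_ne_zero hm1'))
    · show _ * xg chevG2 F (chevG2.simple 0) u * _ = xg chevG2 F (chevG2.neg (chevG2.simple 0)) _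
      rw [simple_val.1, neg_val.1, ← hc]
      calc n * hh 1 (-1) * xg chevG2 F 7 u * (n * hh 1 (-1))⁻¹
          = n * (hh 1 (-1) * xg chevG2 F 7 u * (hh 1 (-1))⁻¹) * n⁻¹ := by group
        _ = _ := by
          rw [hh_conj_x one_ne_zero hm1' (by norm_num), cartan_val.2.1, h7]
          congr 1
          rw [zpow_neg_one, inv_neg, inv_one, one_zpow]
          ring

theorem cj_of_mem_N [Fintype F] {m : GL chevG2.Idx F} (hm : m ∈ (T F).N) (hsq : m * m = 1) (hne : m ≠ 1) :
    Cj m base := by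
  by_cases hw : (T F).Acts m ((T F).wl (W0.map ki))
  · exact cj_longest h2 hm hw hsq hne
  · exact cj_of_ne_longest h2 hm hsq hne hw

/-- Every involution is conjugate to the base point. -/
theorem cj_base [Fintype F] {t : GL chevG2.Idx F} (ht : t ∈ chevG2.group F) (hsq : t * t = 1) (hne : t ≠ 1) :
    Cj t base := by
  classical
  obtain ⟨p, hp⟩ := CharP.exists F
  haveI : Fact p.Prime := ⟨CharP.char_is_prime F p⟩
  have hp2 : p ≠ 2 := fun e => h2 (by subst e; exact_mod_cast CharP.cast_eq_zero F 2)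
  have hf := BNSetup.facts_chevG2
  have hAx := ax F
  haveI : Finite (Fin chevG2.nroots) := inferInstance
  rw [← BNSetup.data_grp G2.good] at ht
  obtain ⟨b₀, hb₀, l, u, hu, rfl⟩ := RootBN.Data.exists_normal_form hAx ht
  obtain ⟨u₁, hu₁, h, hh', rfl⟩ := (RootBN.Data.mem_B_iff hAx).1 hb₀
  have hUgrp : ∀ x ∈ (T F).U, x ∈ chevG2.group F := fun x hx =>
    ChevSylow.posUnipotent_le_group G2.good hf ((BNSetup.data_U G2.good hf).le hx)
  have huU : u ∈ (T F).U := RootBN.Data.Um_le_U _ hu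
  set v := u * u₁ with hv'
  set n := h * (T F).nw l with hn'
  have hcj : Cj (u₁ * h * (T F).nw l * u) (v * n) := ⟨u, hUgrp u huU, by rw [hv', hn']; group⟩
  have hvU : v ∈ (T F).U := (T F).U.mul_mem huU hu₁
  have hnN : n ∈ (T F).N := (T F).N.mul_mem (RootBN.Data.H_le_N hh') (RootBN.Data.nw_mem_N l)
  obtain ⟨e1, e2⟩ := hcj.invol hsq hne
  refine hcj.trans ?_
  -- the torus part
  have hnn : n * n ∈ (T F).H := by
    have e : 1 * n * 1 = v⁻¹ * n⁻¹ * v⁻¹ := by
      rw [one_mul, mul_one]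
      calc n = v⁻¹ * (v * n) := by group
        _ = v⁻¹ * (v * n)⁻¹ := by rw [inv_eq_of_mul_eq_one_right e1]
        _ = _ := by group
    have := RootBN.Data.inv_mul_mem_H_of_eq hAx hnN ((T F).N.inv_mem hnN) (one_mem _)
      (RootBN.Data.U_le_B ((T F).U.inv_mem hvU)) (one_mem _) (RootBN.Data.U_le_B ((T F).U.inv_mem hvU)) e
    have := (T F).H.inv_mem this
    simpa using this
  have hpow : ∀ x ∈ (T F).U, ∃ j, orderOf x = p ^ j := by
    intro x hx
    obtain ⟨j, hj⟩ := (IsPGroup.iff_orderOf.1 (ChevSylow.isPGroup_posUnipotent p G2.good hf (F := F)))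
      ⟨x, (BNSetup.data_U G2.good hf).le hx⟩
    exact ⟨j, by rw [← hj, Subgroup.orderOf_mk]⟩
  have hn1 : n * n = 1 := by
    set z := n * n with hz
    set x := n⁻¹ * v * n with hx
    have hxe : x = z⁻¹ * v⁻¹ := by
      have e : v * n * (v * n) = 1 := e1
      rw [hz, hx, eq_comm]
      calc (n * n)⁻¹ * v⁻¹ = (n * n)⁻¹ * (v⁻¹ * (v * n * (v * n))) := by rw [e, mul_one]
        _ = _ := by group
    have hpw : ∀ m : ℕ, ∃ w ∈ (T F).U, (z⁻¹ * v⁻¹) ^ m = w * (z⁻¹) ^ m := by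
      intro m
      induction m with
      | zero => exact ⟨1, one_mem _, by simp⟩
      | succ m ih =>
        obtain ⟨w, hw, e⟩ := ih
        refine ⟨w * ((z⁻¹) ^ (m + 1) * v⁻¹ * ((z⁻¹) ^ (m + 1))⁻¹), (T F).U.mul_mem hw
          (RootBN.Data.H_conj_U hAx ((T F).H.pow_mem ((T F).H.inv_mem hnn) _) ((T F).U.inv_mem hvU)), ?_⟩
        rw [pow_succ, e, pow_succ]
        group
    obtain ⟨j, hj⟩ := hpow v hvU
    obtain ⟨w, hw, e⟩ := hpw (p ^ j)
    have hx1 : x ^ p ^ j = 1 := by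
      have : x = MulAut.conj n⁻¹ v := by simp [hx]
      rw [this, ← map_pow, ← hj, pow_orderOf_eq_one, map_one]
    rw [← hxe, hx1] at e
    have hzz : (z⁻¹) ^ p ^ j ∈ chevG2.posUnipotent F ⊓ chevG2.diagonalSubgroup F := by
      refine ⟨(BNSetup.data_U G2.good hf).le ?_, (T F).H.pow_mem ((T F).H.inv_mem hnn) _⟩
      rw [eq_inv_of_mul_eq_one_right e.symm]
      exact (T F).U.inv_mem hw
    rw [BNSetup.U_inf_H hf G2.good, Subgroup.mem_bot, inv_pow, inv_eq_one] at hzz
    obtain ⟨i, hi, hord⟩ := (Nat.dvd_prime_pow (Fact.out : p.Prime)).1 (orderOf_dvd_of_pow_eq_one hzz)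
    rcases i with _ | i
    · rwa [pow_zero, orderOf_eq_one_iff] at hord
    · exfalso
      refine ChevSylow.not_dvd_card_diagonal p G2.good hf (F := F) ?_
      refine (dvd_pow_self p (Nat.succ_ne_zero i)).trans ?_
      rw [← hord]
      exact Subgroup.orderOf_dvd_natCard _ hnn
  -- odd order
  obtain ⟨j, hj⟩ := hpow v hvU
  obtain ⟨m, hm⟩ : ∃ m, p ^ j = 2 * m + 1 := by
    have hodd : Odd (p ^ j) := ((Fact.out : p.Prime).odd_of_ne_two hp2).pow
    exact hodd
  set s := v ^ (m + 1) with hs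
  have hninv : n⁻¹ = n := inv_eq_of_mul_eq_one_right hn1
  have hnv : n * v * n⁻¹ = v⁻¹ := by
    rw [hninv]
    calc n * v * n = v⁻¹ * (v * n * (v * n)) := by group
      _ = _ := by rw [e1, mul_one]
  have hns : n * s * n⁻¹ = s⁻¹ := by
    have := map_pow (MulAut.conj n) v (m + 1)
    simp only [MulAut.conj_apply] at this
    rw [hs, this, hnv, inv_pow]
  have hs2 : s * s = v := by
    rw [hs, ← pow_add, show m + 1 + (m + 1) = p ^ j + 1 by omega, pow_succ, ← hj, pow_orderOf_eq_one, one_mul]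
  have hcj2 : Cj n (v * n) := by
    refine ⟨s, hUgrp s ((T F).U.pow_mem hvU _), ?_⟩
    calc s * n * s⁻¹ = s * n * (n * s * n⁻¹) := by rw [hns]
      _ = s * (n * n) * s * n⁻¹ := by group
      _ = v * n := by rw [hn1, mul_one, hs2, hninv]
  obtain ⟨f1, f2⟩ := hcj2.symm.invol e1 e2
  exact hcj2.symm.trans (cj_of_mem_N h2 hnN f1 f2)

end Cfsg.Agent.G2OddInvol
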