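/-
The centralizer of an involution of `G₂(q)`, `q` odd: a central product of two SL₂'s, extended by the torus.
-/
import Cfsg.Agent.Lib.G2OddInvol.Class
import Cfsg.Agent.Lib.Chev.RootProducts
import Cfsg.Agent.Lib.GL.Basic

set_option autoImplicit false
set_option linter.unusedSectionVars false
set_option maxRecDepth 100000

namespace Cfsg.Agent.G2OddInvol

open Cfsg.Lie Cfsg.Agent.Chev
open scoped MatrixGroups

theorem cent_facts :
    (G2.cert.comm 8 10 = [] ∧ G2.cert.comm 8 1 = [] ∧ G2.cert.comm 3 10 = [] ∧ G2.cert.comm 3 1 = []) ∧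
      (chevG2.neg 8 = 3 ∧ chevG2.neg 10 = 1 ∧ chevG2.neg 3 = 8) ∧
      (∀ s ∈ [1, 3, 8, 10], (chevG2.cartan 0 s + chevG2.cartan 1 s) % 2 = 0) ∧
      (∀ s ∈ [0, 2, 4, 5, 6, 7, 9, 11], (chevG2.cartan 0 s + chevG2.cartan 1 s) % 2 = 1) ∧
      (chevG2.reflectRoot 0 6 = 10 ∧ chevG2.reflectRoot 0 5 = 1 ∧ chevG2.reflectRoot 1 7 = 8 ∧
        chevG2.reflectRoot 1 4 = 3) ∧
      (chevG2.cartan 0 8 = -1 ∧ chevG2.cartan 1 8 = 1) := by
  decide +kernel

theorem words_even : ∀ l ∈ words, wn l 8 ∈ [1, 3, 8, 10] →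
    ∃ l' ∈ [[], [1, 0, 1], [0, 1, 0], W0], ∀ r < 12, wn l r = wn l' r := by
  decide +kernel

variable {F : Type*} [Field F]

theorem m1 : (-1 : F) ≠ 0 := neg_ne_zero.2 one_ne_zero

theorem hf : BNSetup.Facts chevG2 WeylTab.tabsG2 WeylTab.simpsG2 := BNSetup.facts_chevG2

theorem xe_eq (r : ℕ) (u : F) : (BNSetup.xe (hgood) r u : GL chevG2.Idx F) = xg chevG2 F r u :=
  Units.ext ((BNSetup.coe_xe _ r u).trans (hgood.coe_xg r u).symm)

theorem base_conj {s : ℕ} (hs : s < 12) (u : F) :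
    base * xg chevG2 F s u * base⁻¹ = xg chevG2 F s ((-1) ^ (chevG2.cartan 0 s + chevG2.cartan 1 s) * u) := by
  rw [base, hh_conj_x m1 m1 hs, zpow_add₀ m1]

theorem base_fix {s : ℕ} (hs : s ∈ [1, 3, 8, 10]) (u : F) : base * xg chevG2 F s u = xg chevG2 F s u * base := by
  have hs' : s < 12 := by simp at hs; omega
  have e := base_conj hs' u
  rw [(Int.even_iff.2 (cent_facts.2.2.1 s hs)).neg_one_zpow, one_mul, mul_inv_eq_iff_eq_mul] at e
  exact e

theorem base_neg {s : ℕ} (hs : s ∈ [0, 2, 4, 5, 6, 7, 9, 11]) (u : F) :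
    base * xg chevG2 F s u * base⁻¹ = xg chevG2 F s (-u) := by
  have hs' : s < 12 := by simp at hs; omega
  rw [base_conj hs' u, (Int.odd_iff.2 (cent_facts.2.2.2.1 s hs)).neg_one_zpow, neg_one_mul]

theorem xg_ne_one {r : ℕ} (hr : r < 12) {u : F} (hu : u ≠ 0) : xg chevG2 F r u ≠ 1 := by
  rw [← xe_eq]; exact BNSetup.xe_ne_one hgood hf (lt12 hr) hu

/-! ### The two SL₂'s -/

theorem sl_decomp (g : SL(2, F)) :
    (∃ a b : F, a ≠ 0 ∧ g = nSL a * nSL (-1) * upperSL b) ∨
      ∃ a b c : F, b ≠ 0 ∧ g = upperSL a * nSL b * upperSL c := by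
  obtain ⟨M, hM⟩ := g
  rw [Matrix.det_fin_two] at hM
  by_cases hc : M 1 0 = 0
  · rw [hc, mul_zero, sub_zero] at hM
    have ha : M 0 0 ≠ 0 := left_ne_zero_of_mul_eq_one hM
    refine Or.inl ⟨M 0 0, (M 0 0)⁻¹ * M 0 1, ha, Subtype.ext ?_⟩
    simp only [Matrix.SpecialLinearGroup.coe_mul, coe_nSL ha, coe_nSL (m1 (F := F)), coe_upperSL]
    have hd : M 1 1 = (M 0 0)⁻¹ := eq_inv_of_mul_eq_one_right hM
    ext i j; fin_cases i <;> fin_cases j <;> simp [Matrix.mul_apply, Fin.sum_univ_two, hc, hd, ha, inv_neg]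
  · refine Or.inr ⟨M 0 0 / M 1 0, -(M 1 0)⁻¹, M 1 1 / M 1 0, neg_ne_zero.2 (inv_ne_zero hc), Subtype.ext ?_⟩
    simp only [Matrix.SpecialLinearGroup.coe_mul, coe_nSL (neg_ne_zero.2 (inv_ne_zero hc)), coe_upperSL]
    ext i j; fin_cases i <;> fin_cases j <;> simp [Matrix.mul_apply, Fin.sum_univ_two, hc, inv_neg]
    all_goals field_simp
    linear_combination -hM

theorem sl_center {g : SL(2, F)} (hu : g * upperSL 1 = upperSL 1 * g) (hl : g * lowerSL 1 = lowerSL 1 * g) :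
    g = 1 ∨ g = -1 := by
  obtain ⟨M, hg⟩ : ∃ M, (g : Matrix (Fin 2) (Fin 2) F) = M := ⟨_, rfl⟩
  have hM : M.det = 1 := hg ▸ g.2
  have e1 := congrArg Subtype.val hu
  have e2 := congrArg Subtype.val hl
  simp only [Matrix.SpecialLinearGroup.coe_mul, coe_upperSL, coe_lowerSL, hg] at e1 e2
  have h00 := congrFun (congrFun e1 0) 0
  have h01 := congrFun (congrFun e1 0) 1
  have h00' := congrFun (congrFun e2 0) 0
  simp [Matrix.mul_apply, Fin.sum_univ_two] at h00 h01 h00'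
  rw [Matrix.det_fin_two, h00', h00, mul_zero, sub_zero] at hM
  have ha : M 0 0 = M 1 1 := by linear_combination h01
  rw [← ha, mul_self_eq_one_iff] at hM
  rcases hM with h | h
  · refine Or.inl (Subtype.ext ?_)
    rw [hg]
    ext i j; fin_cases i <;> fin_cases j <;> simp [h00, h00', ← ha, h]
  · refine Or.inr (Subtype.ext ?_)
    rw [hg]
    ext i j; fin_cases i <;> fin_cases j <;> simp [h00, h00', ← ha, h]

theorem nSL_sq : (nSL (-1) * nSL (-1) : SL(2, F)) = -1 := by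
  refine Subtype.ext ?_
  simp only [Matrix.SpecialLinearGroup.coe_mul, coe_nSL (m1 (F := F))]
  ext i j; fin_cases i <;> fin_cases j <;> simp [Matrix.mul_apply, Fin.sum_univ_two]

/-- The SL₂ of a root. -/
noncomputable def phi (F : Type*) [Field F] {r : ℕ} (hr : r < 12) : SL(2, F) →* GL chevG2.Idx F :=
  (exists_phi (F := F) hr).choose

theorem phi_spec {r : ℕ} (hr : r < 12) :
    (∀ t, phi F hr (upperSL t) = xg chevG2 F r t) ∧
      (∀ t, phi F hr (lowerSL t) = xg chevG2 F (chevG2.neg r) t) ∧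
      (∀ a, phi F hr (nSL a) = nG chevG2 F r a) ∧ ∀ g, phi F hr g ∈ chevG2.group F :=
  (exists_phi (F := F) hr).choose_spec

theorem phi_torus {r : ℕ} (hr : r < 12) (a : F) : phi F hr (nSL a * nSL (-1)) = hG chevG2 F r a := by
  rw [map_mul, (phi_spec hr).2.2.1, (phi_spec hr).2.2.1, hG_eq]

theorem phi_injective {r : ℕ} (hr : r < 12) (hpos : 6 ≤ r) (hco : (chevG2.coroot.getD r #[]).getD 0 0 = 1) :
    Function.Injective (phi F hr) := by
  rw [injective_iff_map_eq_one]
  intro g hg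
  obtain ⟨p1, p2, p3, -⟩ := phi_spec (F := F) hr
  rcases sl_decomp g with ⟨a, b, ha, rfl⟩ | ⟨a, b, c, hb, rfl⟩
  · rw [map_mul, phi_torus, p1] at hg
    have hU : hG chevG2 F r a ∈ chevG2.posUnipotent F ⊓ chevG2.diagonalSubgroup F := by
      refine ⟨?_, Subgroup.subset_closure ⟨r, a, lt12 hr, ha, hgood.coe_hG _ _⟩⟩
      rw [eq_inv_of_mul_eq_one_left hg]
      exact Subgroup.inv_mem _ (Subgroup.subset_closure ⟨r, b, (BNSetup.pos_iff hf (lt12 hr)).2 (by rw [hn]; omega),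
        hgood.coe_xg _ _⟩)
    rw [BNSetup.U_inf_H hf hgood, Subgroup.mem_bot] at hU
    rw [hU, one_mul] at hg
    have hb : b = 0 := by_contra fun h => xg_ne_one hr h hg
    rw [hG_eq_hh hr ha] at hU
    have ha1 : a = 1 := by
      have h := (hh_eq_one (zpow_ne_zero _ ha) (zpow_ne_zero _ ha) hU).1
      rwa [hco, zpow_one] at h
    subst ha1 hb
    refine Subtype.ext ?_
    simp only [Matrix.SpecialLinearGroup.coe_mul, coe_nSL (one_ne_zero (α := F)), coe_nSL (m1 (F := F)), coe_upperSL]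
    ext i j; fin_cases i <;> fin_cases j <;> simp [Matrix.mul_apply, Fin.sum_univ_two, inv_neg]
  · exfalso
    rw [map_mul, map_mul, p1, p1] at hg
    have hw : phi F hr (nSL b) = xg chevG2 F r (-a + -c) := by
      rw [← hgood.xg_add, ← hgood.xg_inv, ← hgood.xg_inv]
      exact eq_inv_mul_of_mul_eq (eq_inv_of_mul_eq_one_left hg)
    have he : nSL b * upperSL 1 = lowerSL (-(b * b)⁻¹) * nSL b := Subtype.ext (by
      simp only [Matrix.SpecialLinearGroup.coe_mul, coe_nSL hb, coe_upperSL, coe_lowerSL]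
      ext i j; fin_cases i <;> fin_cases j <;> simp [Matrix.mul_apply, Fin.sum_univ_two, hb])
    have e := congrArg (phi F hr) he
    rw [map_mul, map_mul, hw, p1, p2, hgood.xg_add, add_comm, ← hgood.xg_add] at e
    have e' := mul_right_cancel e
    rw [← xe_eq, ← xe_eq] at e'
    exact BNSetup.xe_ne hgood hf (lt12 hr) (hgood.neg_lt (lt12 hr)) (hgood.neg_ne (lt12 hr)).symm one_ne_zero _ e'

theorem h8 : 8 < 12 := by norm_num
theorem h10 : 10 < 12 := by norm_num

/-- The short SL₂. -/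
noncomputable def L1 (F : Type*) [Field F] : Subgroup (GL chevG2.Idx F) := (phi F h8).range

/-- The long SL₂. -/
noncomputable def L2 (F : Type*) [Field F] : Subgroup (GL chevG2.Idx F) := (phi F h10).range

theorem phi8_inj : Function.Injective (phi F h8) := phi_injective h8 (by norm_num) coroot_val.2.2.2.2.1
theorem phi10_inj : Function.Injective (phi F h10) :=
  phi_injective h10 (by norm_num) coroot_val.2.2.2.2.2.2.1

theorem L1_eq : L1 F = chevG2.rootSubgroup F 8 ⊔ chevG2.rootSubgroup F 3 := by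
  rw [L1, hgood.range_sl2_hom (phi_spec h8).1 (phi_spec h8).2.1, cent_facts.2.1.1]

theorem L2_eq : L2 F = chevG2.rootSubgroup F 10 ⊔ chevG2.rootSubgroup F 1 := by
  rw [L2, hgood.range_sl2_hom (phi_spec h10).1 (phi_spec h10).2.1, cent_facts.2.1.2.1]

theorem sl_commute {M : Type*} [Group M] {f : SL(2, F) →* M} {y : M}
    (hu : ∀ t, y * f (upperSL t) = f (upperSL t) * y) (hl : ∀ t, y * f (lowerSL t) = f (lowerSL t) * y)
    (g : SL(2, F)) : y * f g = f g * y := by
  have := sl_hom_ext (f := (MulAut.conj y).toMonoidHom.comp f) (g := f)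
    (fun t => by simp [hu t]) (fun t => by simp [hl t]) g
  simpa [mul_inv_eq_iff_eq_mul] using this

theorem L_commute (g g' : SL(2, F)) : phi F h8 g * phi F h10 g' = phi F h10 g' * phi F h8 g := by
  obtain ⟨p1, p2, -, -⟩ := phi_spec (F := F) h8
  obtain ⟨q1, q2, -, -⟩ := phi_spec (F := F) h10
  rw [cent_facts.2.1.1] at p2
  rw [cent_facts.2.1.2.1] at q2
  have key : ∀ r s, r < 12 → s < 12 → s ≠ r → s ≠ chevG2.neg r → G2.cert.comm r s = [] → ∀ u v : F,
      xg chevG2 F s v * xg chevG2 F r u = xg chevG2 F r u * xg chevG2 F s v := by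
    intro r s hr hs h1 h2 hc u v
    rw [hgood.xg_comm (lt12 hr) (lt12 hs) h1 h2, ChevalleyDatum.commWord, G2.valid.comm_eq (lt12 hr) (lt12 hs), hc]
    simp [wordG]
  obtain ⟨⟨c1, c2, c3, c4⟩, ⟨n8, -, n3⟩, -⟩ := cent_facts
  refine (sl_commute (f := phi F h10) (y := phi F h8 g) (fun t => ?_) (fun t => ?_) g').symm.symm
  · refine (sl_commute (f := phi F h8) (y := phi F h10 (upperSL t)) (fun u => ?_) (fun u => ?_) g).symm
    · rw [p1, q1]; exact key 8 10 h8 h10 (by norm_num) (by rw [n8]; norm_num) c1 u t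
    · rw [p2, q1]; exact key 3 10 (by norm_num) h10 (by norm_num) (by rw [n3]; norm_num) c3 u t
  · refine (sl_commute (f := phi F h8) (y := phi F h10 (lowerSL t)) (fun u => ?_) (fun u => ?_) g).symm
    · rw [p1, q2]; exact key 8 1 h8 (by norm_num) (by norm_num) (by rw [n8]; norm_num) c2 u t
    · rw [p2, q2]; exact key 3 1 (by norm_num) (by norm_num) (by norm_num) (by rw [n3]; norm_num) c4 u t

theorem phi8_neg : phi F h8 (-1) = base := by
  rw [← nSL_sq, phi_torus, hG_eq_hh h8 m1, coroot_val.2.2.2.2.1, coroot_val.2.2.2.2.2.1, base]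
  norm_num [show (3 : ℤ) = ((3 : ℕ) : ℤ) from rfl]

theorem phi10_neg : phi F h10 (-1) = base := by
  rw [← nSL_sq, phi_torus, hG_eq_hh h10 m1, coroot_val.2.2.2.2.2.2.1, coroot_val.2.2.2.2.2.2.2, base]
  norm_num

theorem base_mul_base : (base : GL chevG2.Idx F) * base = 1 := by
  rw [base, hh_mul m1 m1 m1 m1, neg_one_mul, neg_neg, hh_one]

theorem eq_of_phi_eq {g g' : SL(2, F)} (e : phi F h8 g = phi F h10 g') :
    (g = 1 ∧ g' = 1) ∨ (g = -1 ∧ g' = -1) := by
  have hc : ∀ k, g * k = k * g := fun k => phi8_inj (by rw [map_mul, map_mul, e, L_commute])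
  rcases sl_center (hc _) (hc _) with rfl | rfl
  · exact Or.inl ⟨rfl, phi10_inj (by rw [← e, map_one, map_one])⟩
  · exact Or.inr ⟨rfl, phi10_inj (by rw [← e, phi8_neg, phi10_neg])⟩

theorem L1_inf_L2 : L1 F ⊓ L2 F = Subgroup.zpowers base := by
  refine le_antisymm ?_ ?_
  · rintro _ ⟨⟨g, rfl⟩, ⟨g', e⟩⟩
    rcases eq_of_phi_eq e.symm with ⟨rfl, -⟩ | ⟨rfl, -⟩
    · rw [map_one]; exact one_mem _
    · rw [phi8_neg]; exact Subgroup.mem_zpowers _
  · rw [Subgroup.zpowers_le]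
    exact ⟨⟨-1, phi8_neg⟩, ⟨-1, phi10_neg⟩⟩

/-- The product map onto `L₁ L₂`. -/
noncomputable def psi (F : Type*) [Field F] : SL(2, F) × SL(2, F) →* GL chevG2.Idx F :=
  (phi F h8).noncommCoprod (phi F h10) L_commute

theorem range_psi : (psi F).range = L1 F ⊔ L2 F := MonoidHom.noncommCoprod_range _ _ _

theorem card_L [Fintype F] (h2 : (2 : F) ≠ 0) :
    2 * Nat.card (L1 F ⊔ L2 F : Subgroup (GL chevG2.Idx F)) =
      (Fintype.card F * (Fintype.card F ^ 2 - 1)) ^ 2 := by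
  have hk : ((psi F).ker : Set (SL(2, F) × SL(2, F))) = {(1, 1), (-1, -1)} := by
    ext ⟨g, g'⟩
    simp only [SetLike.mem_coe, MonoidHom.mem_ker, Set.mem_insert_iff, Set.mem_singleton_iff, Prod.mk.injEq]
    constructor
    · intro h
      have h' : phi F h8 g = phi F h10 g'⁻¹ := by
        rw [map_inv]; exact eq_inv_of_mul_eq_one_left h
      rcases eq_of_phi_eq h' with ⟨rfl, e⟩ | ⟨rfl, e⟩
      · exact Or.inl ⟨rfl, inv_eq_one.1 e⟩
      · refine Or.inr ⟨rfl, ?_⟩
        rw [← inv_inv g', e]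
        exact inv_eq_of_mul_eq_one_right (by simp)
    · rintro (⟨rfl, rfl⟩ | ⟨rfl, rfl⟩)
      · show phi F h8 1 * phi F h10 1 = 1
        rw [map_one, map_one, one_mul]
      · show phi F h8 (-1) * phi F h10 (-1) = 1
        rw [phi8_neg, phi10_neg, base_mul_base]
  have hne : ((1, 1) : SL(2, F) × SL(2, F)) ≠ (-1, -1) := fun e => h2 (by
    have := congrArg (fun p : SL(2, F) × SL(2, F) => p.1.1 0 0) e
    simp at this
    linear_combination this)
  have hcard : Nat.card (psi F).ker = 2 := by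
    show Nat.card ((psi F).ker : Set (SL(2, F) × SL(2, F))) = 2
    rw [Nat.card_coe_set_eq, hk, Set.ncard_pair hne]
  have := Subgroup.card_eq_card_quotient_mul_card_subgroup (psi F).ker
  rw [hcard, Nat.card_congr (QuotientGroup.quotientKerEquivRange (psi F)).toEquiv, range_psi, Nat.card_prod,
    GL.card_SL2] at this
  linarith

/-! ### The torus -/

/-- `L₁ L₂ H`. -/
noncomputable def K (F : Type*) [Field F] : Subgroup (GL chevG2.Idx F) := (L1 F ⊔ L2 F) ⊔ (T F).H

theorem mem_L_of_root {s : ℕ} (hs : s ∈ [1, 3, 8, 10]) (u : F) : xg chevG2 F s u ∈ L1 F ⊔ L2 F := by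
  simp only [List.mem_cons, List.not_mem_nil, or_false] at hs
  rcases hs with rfl | rfl | rfl | rfl
  · exact Subgroup.mem_sup_right (L2_eq.ge (Subgroup.mem_sup_right (hgood.mem_rootSubgroup_iff.2 ⟨u, rfl⟩)))
  · exact Subgroup.mem_sup_left (L1_eq.ge (Subgroup.mem_sup_right (hgood.mem_rootSubgroup_iff.2 ⟨u, rfl⟩)))
  · exact Subgroup.mem_sup_left (L1_eq.ge (Subgroup.mem_sup_left (hgood.mem_rootSubgroup_iff.2 ⟨u, rfl⟩)))
  · exact Subgroup.mem_sup_right (L2_eq.ge (Subgroup.mem_sup_left (hgood.mem_rootSubgroup_iff.2 ⟨u, rfl⟩)))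

theorem H_normalizes : (T F).H ≤ Subgroup.normalizer ((L1 F ⊔ L2 F : Subgroup _) : Set (GL chevG2.Idx F)) := by
  have key : ∀ h ∈ (T F).H, ∀ x ∈ L1 F ⊔ L2 F, h * x * h⁻¹ ∈ L1 F ⊔ L2 F := by
    intro h hh' x hx
    obtain ⟨a, b, ha, hb, rfl⟩ := exists_hh hh'
    refine (show L1 F ⊔ L2 F ≤ (L1 F ⊔ L2 F).comap (MulAut.conj (hh a b)).toMonoidHom from ?_) hx
    have h1 : ∀ s ∈ [1, 3, 8, 10], chevG2.rootSubgroup F s ≤
        (L1 F ⊔ L2 F).comap (MulAut.conj (hh a b)).toMonoidHom := by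
      intro s hs y hy
      obtain ⟨u, rfl⟩ := hgood.mem_rootSubgroup_iff.1 hy
      show hh a b * _ * (hh a b)⁻¹ ∈ L1 F ⊔ L2 F
      rw [hh_conj_x ha hb (by simp at hs; omega)]
      exact mem_L_of_root hs _
    refine sup_le ?_ ?_
    · exact L1_eq.le.trans (sup_le (h1 8 (by simp)) (h1 3 (by simp)))
    · exact L2_eq.le.trans (sup_le (h1 10 (by simp)) (h1 1 (by simp)))
  intro h hh'
  refine Subgroup.mem_normalizer_iff.2 fun x => ⟨key h hh' x, fun hx => ?_⟩
  have := key h⁻¹ ((T F).H.inv_mem hh') _ hx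
  simpa [mul_assoc] using this

theorem exists_of_mem_K {x : GL chevG2.Idx F} (hx : x ∈ K F) :
    ∃ m ∈ L1 F ⊔ L2 F, ∃ a b : F, a ≠ 0 ∧ b ≠ 0 ∧ x = m * hh a b := by
  rw [K, ← SetLike.mem_coe, Subgroup.coe_mul_of_right_le_normalizer_left _ _ H_normalizes, Set.mem_mul] at hx
  obtain ⟨m, hm, h, hh', rfl⟩ := hx
  obtain ⟨a, b, ha, hb, rfl⟩ := exists_hh hh'
  exact ⟨m, hm, a, b, ha, hb, rfl⟩

theorem hh_mem_L_iff {x y : F} (hx : x ≠ 0) (hy : y ≠ 0) : hh x y ∈ L1 F ⊔ L2 F ↔ IsSquare (y / x) := by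
  constructor
  · intro h
    rw [← range_psi] at h
    obtain ⟨⟨g, g'⟩, e⟩ := h
    change phi F h8 g * phi F h10 g' = hh x y at e
    have hcj : ∀ u, g * upperSL u * g⁻¹ = upperSL (y / x * u) := by
      intro u
      refine phi8_inj ?_
      have hx8 := hh_conj_x hx hy h8 u
      rw [cent_facts.2.2.2.2.2.1, cent_facts.2.2.2.2.2.2, zpow_neg_one, zpow_one, ← e, ← (phi_spec h8).1,
        ← (phi_spec h8).1, mul_assoc (phi F h8 g), ← L_commute (upperSL u) g'] at hx8
      rw [map_mul, map_mul, map_inv, show y / x = x⁻¹ * y by ring, ← hx8]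
      group
    have h1 := hcj 1
    rw [mul_inv_eq_iff_eq_mul] at h1
    have e1 := congrArg Subtype.val h1
    simp only [Matrix.SpecialLinearGroup.coe_mul, coe_upperSL] at e1
    have a00 := congrFun (congrFun e1 0) 0
    have a01 := congrFun (congrFun e1 0) 1
    simp [Matrix.mul_apply, Fin.sum_univ_two, hx, hy] at a00 a01
    have hdet : g.1 0 0 * g.1 1 1 - g.1 0 1 * g.1 1 0 = 1 := (Matrix.det_fin_two g.1).symm.trans g.2
    rw [a00, mul_zero, sub_zero] at hdet
    refine ⟨g.1 0 0, ?_⟩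
    linear_combination (-(g.1 0 0)) * a01 - (y / x) * hdet
  · rintro ⟨c, hc⟩
    have hc0 : c ≠ 0 := fun h => div_ne_zero hy hx (by rw [hc, h, mul_zero])
    have hxc : x / c ≠ 0 := div_ne_zero hx hc0
    have e : hh x y = hG chevG2 F 8 c * hG chevG2 F 10 (x / c) := by
      rw [hG_eq_hh h8 hc0, hG_eq_hh h10 hxc, coroot_val.2.2.2.2.1, coroot_val.2.2.2.2.2.1,
        coroot_val.2.2.2.2.2.2.1, coroot_val.2.2.2.2.2.2.2, zpow_one, zpow_one,
        hh_mul hc0 (zpow_ne_zero _ hc0) hxc hxc, show (c : F) ^ (3 : ℤ) = c ^ (3 : ℕ) from zpow_natCast c 3]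
      congr 1
      · field_simp
      · rw [div_eq_iff hx] at hc
        rw [hc]
        field_simp
    rw [e, ← phi_torus h8, ← phi_torus h10]
    exact Subgroup.mul_mem _ (Subgroup.mem_sup_left ⟨_, rfl⟩) (Subgroup.mem_sup_right ⟨_, rfl⟩)

/-! ### The centralizer -/

theorem L_le_group : L1 F ⊔ L2 F ≤ chevG2.group F :=
  sup_le (by rintro _ ⟨g, rfl⟩; exact (phi_spec h8).2.2.2 g) (by rintro _ ⟨g, rfl⟩; exact (phi_spec h10).2.2.2 g)

theorem K_le_group : K F ≤ chevG2.group F :=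
  sup_le L_le_group fun _ h => mem_group_of_mem_N (RootBN.Data.H_le_N h)

theorem K_le_centralizer : K F ≤ Subgroup.centralizer {base} := by
  have hroot : ∀ s ∈ [1, 3, 8, 10], chevG2.rootSubgroup F s ≤ Subgroup.centralizer {base} := by
    intro s hs x hx
    obtain ⟨u, rfl⟩ := hgood.mem_rootSubgroup_iff.1 hx
    rw [Subgroup.mem_centralizer_singleton_iff]
    exact (base_fix hs u).symm
  refine sup_le (sup_le ?_ ?_) ?_
  · rw [L1_eq]; exact sup_le (hroot 8 (by simp)) (hroot 3 (by simp))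
  · rw [L2_eq]; exact sup_le (hroot 10 (by simp)) (hroot 1 (by simp))
  · intro x hx
    obtain ⟨a, b, ha, hb, rfl⟩ := exists_hh hx
    rw [Subgroup.mem_centralizer_singleton_iff, base, hh_mul ha hb m1 m1, hh_mul m1 m1 ha hb, mul_comm a, mul_comm b]

theorem mem_K_of_U (h2 : (2 : F) ≠ 0) {u : GL chevG2.Idx F} (hu : u ∈ chevG2.posUnipotent F)
    (he : base * u * base⁻¹ = u) : u ∈ K F := by
  have hN : chevG2.nroots / 2 + chevG2.nroots / 2 = chevG2.nroots := by rw [hn]
  rw [← BNSetup.Uge_eq_U hgood hf] at hu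
  obtain ⟨t, -, rfl⟩ := BNSetup.exists_prodFrom hgood hf hN le_rfl u hu
  let χ : ℕ → F := fun s => (-1) ^ (chevG2.cartan 0 s + chevG2.cartan 1 s)
  have hconj : ∀ k m : ℕ, k + m ≤ 12 → base * BNSetup.prodFrom hgood F t k m * base⁻¹ =
      BNSetup.prodFrom hgood F (fun s => χ s * t s) k m := by
    intro k m
    induction m generalizing k with
    | zero => intro _; simp [BNSetup.prodFrom]
    | succ m ih =>
      intro hkm
      rw [BNSetup.prodFrom, BNSetup.prodFrom, ← ih (k + 1) (by omega), xe_eq, xe_eq, ← base_conj (by omega)]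
      group
  rw [hconj _ _ (by rw [hn])] at he
  have hinj := BNSetup.prodFrom_inj hgood hf hN le_rfl he
  have hz : ∀ s ∈ [6, 7, 9, 11], t s = 0 := by
    intro s hs
    have hs' : 6 ≤ s ∧ s < 12 := by simp at hs; omega
    have e := hinj s (by rw [hn]; omega) (lt12 hs'.2)
    have hs'' : s ∈ [0, 2, 4, 5, 6, 7, 9, 11] := by simp at hs ⊢; omega
    simp only [χ, (Int.odd_iff.2 (cent_facts.2.2.2.1 s hs'')).neg_one_zpow] at e
    have h0 : (2 : F) * t s = 0 := by linear_combination -e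
    exact (mul_eq_zero.1 h0).resolve_left h2
  rw [show chevG2.nroots / 2 = 6 by rw [hn]]
  simp only [BNSetup.prodFrom, xe_eq, hz 6 (by simp), hz 7 (by simp), hz 9 (by simp), hz 11 (by simp),
    hgood.xg_zero, one_mul, mul_one]
  exact Subgroup.mem_sup_left (Subgroup.mul_mem _ (mem_L_of_root (by simp) _) (mem_L_of_root (by simp) _))

theorem nn_mul_mem {i : ℕ} {s : ℕ} (hs : s < 12) (hi : i < 2)
    (h1 : chevG2.reflectRoot i s ∈ [1, 3, 8, 10]) (h2 : chevG2.reflectRoot i (chevG2.neg s) ∈ [1, 3, 8, 10])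
    (g : SL(2, F)) : (T F).nn (ki i) * phi F hs g * ((T F).nn (ki i))⁻¹ ∈ K F := by
  have hi' : (ki i).val = i := Nat.mod_eq_of_lt hi
  obtain ⟨η, hη, hx⟩ := hgood.exists_sign_xg (F := F) (i := i) (hk ▸ hi)
  have hnn : (T F).nn (ki i) = nG chevG2 F (chevG2.simple i) 1 := by
    rw [(isChevData (F := F) G2.good BNSetup.facts_chevG2).nn_eq, hi']
  refine Subgroup.mem_sup_left ?_
  show g ∈ (L1 F ⊔ L2 F).comap ((MulAut.conj ((T F).nn (ki i))).toMonoidHom.comp (phi F hs))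
  refine (show Subgroup.closure (Set.range (upperSL (F := F)) ∪ {flipSL}) ≤ _ from
    (Subgroup.closure_le _).2 ?_) (eq_upper_torus_lower g)
  have hup : ∀ u : F, upperSL u ∈ (L1 F ⊔ L2 F).comap
      ((MulAut.conj ((T F).nn (ki i))).toMonoidHom.comp (phi F hs)) := fun u => by
    rw [Subgroup.mem_comap, MonoidHom.comp_apply, MulEquiv.coe_toMonoidHom, MulAut.conj_apply,
      (phi_spec hs).1, hnn, hx s (lt12 hs), mul_inv_cancel_right]
    exact mem_L_of_root h1 _
  have hlo : ∀ u : F, lowerSL u ∈ (L1 F ⊔ L2 F).comap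
      ((MulAut.conj ((T F).nn (ki i))).toMonoidHom.comp (phi F hs)) := fun u => by
    rw [Subgroup.mem_comap, MonoidHom.comp_apply, MulEquiv.coe_toMonoidHom, MulAut.conj_apply,
      (phi_spec hs).2.1, hnn, hx _ (hgood.neg_lt (lt12 hs)), mul_inv_cancel_right]
    exact mem_L_of_root h2 _
  rintro _ (⟨u, rfl⟩ | rfl)
  · exact hup u
  · have hflip : (flipSL : SL(2, F)) = upperSL 1 * lowerSL (-1) * upperSL 1 := by
      apply Subtype.ext
      simp only [Matrix.SpecialLinearGroup.coe_mul]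
      ext a b; fin_cases a <;> fin_cases b <;>
        simp [coe_lowerSL, coe_upperSL, coe_flipSL, Matrix.mul_apply, Fin.sum_univ_two]
    rw [hflip]
    exact Subgroup.mul_mem _ (Subgroup.mul_mem _ (hup _) (hlo _)) (hup _)

theorem nw101_mem : (T F).nw ([1, 0, 1].map ki) ∈ K F := by
  have h : (T F).nn (ki 1) * phi F (show 7 < 12 by norm_num) (nSL 1) * ((T F).nn (ki 1))⁻¹ ∈ K F :=
    nn_mul_mem _ (by norm_num) (by rw [cent_facts.2.2.2.2.1.2.2.1]; simp)
      (by rw [neg_val.1, cent_facts.2.2.2.2.1.2.2.2]; simp) _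
  rw [(phi_spec _).2.2.1, ← nn_zero] at h
  have hsq : (T F).nn (ki 1) * (T F).nn (ki 1) ∈ K F := Subgroup.mem_sup_right ((ax F).nn_sq _)
  have := Subgroup.mul_mem _ h hsq
  simpa [List.map_cons, RootBN.Data.nw_cons, mul_assoc] using this

theorem nw010_mem : (T F).nw ([0, 1, 0].map ki) ∈ K F := by
  have h : (T F).nn (ki 0) * phi F (show 6 < 12 by norm_num) (nSL 1) * ((T F).nn (ki 0))⁻¹ ∈ K F :=
    nn_mul_mem _ (by norm_num) (by rw [cent_facts.2.2.2.2.1.1]; simp)
      (by rw [neg_val.2.1, cent_facts.2.2.2.2.1.2.1]; simp) _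
  rw [(phi_spec _).2.2.1, ← nn_one] at h
  have hsq : (T F).nn (ki 0) * (T F).nn (ki 0) ∈ K F := Subgroup.mem_sup_right ((ax F).nn_sq _)
  have := Subgroup.mul_mem _ h hsq
  simpa [List.map_cons, RootBN.Data.nw_cons, mul_assoc] using this

theorem mem_K_of_N (h2 : (2 : F) ≠ 0) {m : GL chevG2.Idx F} (hm : m ∈ (T F).N)
    (hc : base * m * base⁻¹ = m) : m ∈ K F := by
  obtain ⟨h, hh', l, hl, rfl⟩ := exists_normal hm
  have hlt : wn l 8 < 12 := by
    have := ((T F).wl (l.map ki) ⟨8, lt12 h8⟩).2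
    rw [val_wl l (words_lt l hl)] at this
    exact lt_of_lt_of_eq this hn
  have heven : wn l 8 ∈ [1, 3, 8, 10] := by
    by_contra hodd
    have hodd' : wn l 8 ∈ [0, 2, 4, 5, 6, 7, 9, 11] := by
      simp at hodd ⊢; omega
    obtain ⟨e, he, hx⟩ := nw_conj_x (F := F) (l.map ki) ⟨8, lt12 h8⟩
    obtain ⟨a, b, ha, hb, rfl⟩ := exists_hh hh'
    set n := hh a b * (T F).nw (l.map ki) with hn'
    set c := a ^ chevG2.cartan 0 (wn l 8) * b ^ chevG2.cartan 1 (wn l 8) * e with hcdef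
    have hnx : n * xg chevG2 F 8 1 * n⁻¹ = xg chevG2 F (wn l 8) c := by
      have hx' := hx 1
      rw [val_wl l (words_lt l hl), mul_one] at hx'
      rw [hn', show hh a b * (T F).nw (l.map ki) * xg chevG2 F 8 1 * (hh a b * (T F).nw (l.map ki))⁻¹ =
        hh a b * ((T F).nw (l.map ki) * xg chevG2 F 8 1 * ((T F).nw (l.map ki))⁻¹) * (hh a b)⁻¹ by group,
        hx', hh_conj_x ha hb hlt]
    have hn2 : base * n = n * base := mul_inv_eq_iff_eq_mul.1 hc
    have h8fix := base_fix (F := F) (s := 8) (by simp) 1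
    have e1 : base * xg chevG2 F (wn l 8) c * base⁻¹ = xg chevG2 F (wn l 8) c := by
      rw [← hnx, mul_inv_eq_iff_eq_mul]
      calc base * (n * xg chevG2 F 8 1 * n⁻¹) = base * n * xg chevG2 F 8 1 * n⁻¹ := by group
        _ = n * (base * xg chevG2 F 8 1) * n⁻¹ := by rw [hn2]; group
        _ = n * xg chevG2 F 8 1 * (base * n⁻¹) := by rw [h8fix]; group
        _ = n * xg chevG2 F 8 1 * (n⁻¹ * (n * base) * n⁻¹) := by group
        _ = _ := by rw [← hn2]; group
    rw [base_neg hodd'] at e1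
    have e2 : xg chevG2 F (wn l 8) (c + c) = 1 := by
      rw [← hgood.xg_add]
      nth_rewrite 1 [← e1]
      rw [hgood.xg_add, neg_add_cancel, hgood.xg_zero]
    refine xg_ne_one hlt (fun h0 => ?_) e2
    have hc0 : c ≠ 0 := mul_ne_zero (mul_ne_zero (zpow_ne_zero _ ha) (zpow_ne_zero _ hb))
      (left_ne_zero_of_mul_eq_one he)
    exact hc0 ((mul_eq_zero.1 (show (2 : F) * c = 0 by linear_combination h0)).resolve_left h2)
  obtain ⟨l', hl', e⟩ := words_even l hl heven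
  have hlt' : ∀ i ∈ l', i < 2 := by
    intro i hi
    simp only [List.mem_cons, List.not_mem_nil, or_false] at hl'
    rcases hl' with rfl | rfl | rfl | rfl <;> simp [W0] at hi <;> omega
  have hH := RootBN.Data.mul_inv_mem_H (ax F) (RootBN.Data.nw_mem_N (l.map ki))
    (RootBN.Data.nw_mem_N (l'.map ki)) (RootBN.Data.acts_nw (ax F) _)
    (wl_eq (F := F) (words_lt l hl) hlt' e ▸ RootBN.Data.acts_nw (ax F) _)
  have hl'K : (T F).nw (l'.map ki) ∈ K F := by
    simp only [List.mem_cons, List.not_mem_nil, or_false] at hl'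
    rcases hl' with rfl | rfl | rfl | rfl
    · simp
    · exact nw101_mem
    · exact nw010_mem
    · have hW : (T F).nw (W0.map ki) = (T F).nw ([0, 1, 0].map ki) * (T F).nw ([1, 0, 1].map ki) := by
        rw [← RootBN.Data.nw_append, ← List.map_append]; rfl
      rw [hW]; exact Subgroup.mul_mem _ nw010_mem nw101_mem
  refine Subgroup.mul_mem _ (Subgroup.mem_sup_right hh') ?_
  have := Subgroup.mul_mem _ (Subgroup.mem_sup_right (S := L1 F ⊔ L2 F) hH) hl'K
  simpa [K] using this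

theorem centralizer_eq (h2 : (2 : F) ≠ 0) :
    chevG2.group F ⊓ Subgroup.centralizer {base} = K F := by
  refine le_antisymm ?_ (le_inf K_le_group K_le_centralizer)
  rintro g ⟨hg, hc⟩
  have hAx := ax F
  replace hc : g ∈ Subgroup.centralizer {base} := hc
  rw [Subgroup.mem_centralizer_singleton_iff] at hc
  obtain ⟨hex, huniq⟩ := BNSetup.bruhat_normal_form (F := F) hgood hf BNSetup.negTri_chevG2
  obtain ⟨b, hb, n, hn', u, hu, rfl⟩ := hex g hg
  have hN : n ∈ (T F).N := (BNSetup.data_N hgood hf).ge hn'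
  have hbase : (base : GL chevG2.Idx F) ∈ chevG2.diagonalSubgroup F := hh_mem m1 m1
  have hb' : base ∈ chevG2.borelSubgroup F := Subgroup.mem_sup_right hbase
  have hh'' : base * n * base⁻¹ * n⁻¹ ∈ chevG2.diagonalSubgroup F := by
    show _ ∈ (T F).H
    have := RootBN.Data.N_conj_H hAx hN ((T F).H.inv_mem hbase)
    have := (T F).H.mul_mem hbase this
    simpa [mul_assoc] using this
  set h' := base * n * base⁻¹ * n⁻¹ with hh'
  have hu' : base * u * base⁻¹ ∈ Subgroup.closure (BNSetup.negSet F chevG2 n) := by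
    refine (show Subgroup.closure (BNSetup.negSet F chevG2 n) ≤
      (Subgroup.closure (BNSetup.negSet F chevG2 n)).comap (MulAut.conj base).toMonoidHom from
        (Subgroup.closure_le _).2 ?_) hu
    rintro x ⟨r, v, hr, hle, hx⟩
    have hxe : x = xg chevG2 F r v := hgood.eq_xg hx
    refine Subgroup.subset_closure ⟨r, (-1) ^ (chevG2.cartan 0 r + chevG2.cartan 1 r) * v, hr, hle, ?_⟩
    show ((base * x * base⁻¹ : GL chevG2.Idx F) : Matrix chevG2.Idx chevG2.Idx F) = _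
    rw [hxe, base_conj (lt_of_lt_of_eq hr.1 hn), hgood.coe_xg]
  have hbH : base * b * base⁻¹ * h' ∈ chevG2.borelSubgroup F :=
    Subgroup.mul_mem _ (Subgroup.mul_mem _ (Subgroup.mul_mem _ hb' hb) (Subgroup.inv_mem _ hb'))
      (Subgroup.mem_sup_right hh'')
  have e : b * n * u = (base * b * base⁻¹ * h') * n * (base * u * base⁻¹) := by
    rw [hh']
    calc b * n * u = base * (b * n * u) * base⁻¹ := by rw [← hc, mul_inv_cancel_right]
      _ = _ := by group
  obtain ⟨eb, eu⟩ := (huniq b _ n n u _ hb hbH hn' hn' hu hu' e).2 rfl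
  obtain ⟨u1, hu1, h1, hh1, rfl⟩ := BNSetup.borel_decomp hgood hf hb
  have hcomm : base * h1 = h1 * base := by
    obtain ⟨x, y, hx, hy, rfl⟩ := exists_hh (show h1 ∈ (T F).H from hh1)
    rw [base, hh_mul hx hy m1 m1, hh_mul m1 m1 hx hy, mul_comm x, mul_comm y]
  have hu1' : base * u1 * base⁻¹ ∈ chevG2.posUnipotent F :=
    (BNSetup.data_U hgood hf).le (RootBN.Data.H_conj_U hAx hbase ((BNSetup.data_U hgood hf).ge hu1))
  have eb' : u1 * h1 = (base * u1 * base⁻¹) * (h1 * h') := by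
    rw [eb]
    calc base * (u1 * h1) * base⁻¹ * h' = base * u1 * base⁻¹ * (base * h1 * base⁻¹) * h' := by group
      _ = _ := by rw [hcomm]; group
  have hbot : (base * u1 * base⁻¹)⁻¹ * u1 ∈ chevG2.posUnipotent F ⊓ chevG2.diagonalSubgroup F := by
    refine ⟨Subgroup.mul_mem _ (Subgroup.inv_mem _ hu1') hu1, ?_⟩
    have : (base * u1 * base⁻¹)⁻¹ * u1 = h1 * h' * h1⁻¹ := by
      rw [inv_mul_eq_iff_eq_mul]
      calc u1 = u1 * h1 * h1⁻¹ := by group
        _ = _ := by rw [eb']; group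
    rw [this]
    exact Subgroup.mul_mem _ (Subgroup.mul_mem _ hh1 hh'') (Subgroup.inv_mem _ hh1)
  rw [BNSetup.U_inf_H hf hgood, Subgroup.mem_bot, inv_mul_eq_one] at hbot
  rw [hbot] at eb'
  have h1' : h' = 1 := mul_eq_left.1 (mul_left_cancel eb').symm
  rw [hh', mul_inv_eq_one] at h1'
  have hUu : u ∈ chevG2.posUnipotent F := by
    refine (show Subgroup.closure (BNSetup.negSet F chevG2 n) ≤ chevG2.posUnipotent F from ?_) hu
    rw [Subgroup.closure_le]
    rintro x ⟨r, v, hr, -, hx⟩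
    exact Subgroup.subset_closure ⟨r, v, hr, hx⟩
  exact Subgroup.mul_mem _ (Subgroup.mul_mem _ (Subgroup.mul_mem _ (mem_K_of_U h2 hu1 hbot)
    (Subgroup.mem_sup_right hh1)) (mem_K_of_N h2 hN h1')) (mem_K_of_U h2 hUu eu.symm)

theorem relIndex_L [Fintype F] (h2 : (2 : F) ≠ 0) : (L1 F ⊔ L2 F).relIndex (K F) = 2 := by
  classical
  have hchar : ringChar F ≠ 2 := fun hc => h2 (by
    have := ringChar.Nat.cast_ringChar (R := F)
    rw [hc] at this
    exact_mod_cast this)
  obtain ⟨ν, hν⟩ := FiniteField.exists_nonsquare hchar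
  have hν0 : ν ≠ 0 := fun h => hν (h ▸ IsSquare.zero)
  rw [Subgroup.relIndex, Subgroup.index_eq_two_iff]
  refine ⟨⟨hh 1 ν, Subgroup.mem_sup_right (hh_mem one_ne_zero hν0)⟩, fun x => ?_⟩
  obtain ⟨m, hm, a, b, ha, hb, e⟩ := exists_of_mem_K x.2
  simp only [Subgroup.mem_subgroupOf, Subgroup.coe_mul, e, mul_assoc, hh_mul ha hb one_ne_zero hν0, mul_one]
  rw [Subgroup.mul_mem_cancel_left _ hm, Subgroup.mul_mem_cancel_left _ hm, hh_mem_L_iff ha (mul_ne_zero hb hν0),
    hh_mem_L_iff ha hb, show b * ν / a = b / a * ν by ring]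
  by_cases hs : IsSquare (b / a)
  · refine Or.inr ⟨hs, fun h => hν ?_⟩
    obtain ⟨c, hc⟩ := hs
    obtain ⟨d, hd⟩ := h
    have hc0 : c ≠ 0 := fun h => div_ne_zero hb ha (by rw [hc, h, mul_zero])
    refine ⟨d / c, ?_⟩
    rw [hc] at hd
    field_simp
    linear_combination hd
  · exact Or.inl ⟨isSquare_mul_of_not hs hν, hs⟩

/-- The structure of the centralizer of an element. -/
def CentShape {G : Type*} [Group G] (F : Type*) [Field F] [Fintype F] (t : G) : Prop :=
  Nat.card (Subgroup.centralizer ({t} : Set G)) = Fintype.card F ^ 2 * (Fintype.card F ^ 2 - 1) ^ 2 ∧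
    ∃ L₁ L₂ : Subgroup G, Nonempty (L₁ ≃* Matrix.SpecialLinearGroup (Fin 2) F) ∧
      Nonempty (L₂ ≃* Matrix.SpecialLinearGroup (Fin 2) F) ∧ (∀ x ∈ L₁, ∀ y ∈ L₂, x * y = y * x) ∧
      L₁ ⊓ L₂ = Subgroup.zpowers t ∧ L₁ ⊔ L₂ ≤ Subgroup.centralizer ({t} : Set G) ∧
      (L₁ ⊔ L₂).relIndex (Subgroup.centralizer ({t} : Set G)) = 2

theorem CentShape.map {G : Type*} [Group G] {F : Type*} [Field F] [Fintype F] {t : G} (h : CentShape F t)
    (e : G ≃* G) : CentShape F (e t) := by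
  have hi : Function.Injective e.toMonoidHom := e.injective
  have hC : (Subgroup.centralizer ({t} : Set G)).map e.toMonoidHom = Subgroup.centralizer ({e t} : Set G) := by
    ext x
    rw [Subgroup.mem_map_equiv, Subgroup.mem_centralizer_singleton_iff,
      Subgroup.mem_centralizer_singleton_iff]
    constructor
    · intro hx
      have := congrArg e hx
      simpa using this
    · intro hx
      have := congrArg e.symm hx
      simpa using this
  obtain ⟨hc, L₁, L₂, ⟨a⟩, ⟨b⟩, hcomm, hinf, hle, hidx⟩ := h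
  refine ⟨?_, L₁.map e.toMonoidHom, L₂.map e.toMonoidHom,
    ⟨(L₁.equivMapOfInjective _ hi).symm.trans a⟩, ⟨(L₂.equivMapOfInjective _ hi).symm.trans b⟩, ?_, ?_, ?_, ?_⟩
  · rw [← hC, Subgroup.card_map_of_injective hi, hc]
  · rintro _ ⟨x, hx, rfl⟩ _ ⟨y, hy, rfl⟩
    rw [← map_mul, ← map_mul, hcomm x hx y hy]
  · rw [← Subgroup.map_inf _ _ _ hi, hinf, MonoidHom.map_zpowers]; rfl
  · rw [← Subgroup.map_sup, ← hC]; exact Subgroup.map_mono hle
  · rw [← Subgroup.map_sup, ← hC, Subgroup.relIndex_map_map_of_injective _ _ hi, hidx]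

theorem centShape [Fintype F] (h2 : (2 : F) ≠ 0) (t : chevG2.group F) (ht : orderOf t = 2) : CentShape F t := by
  classical
  obtain ⟨g, hg, e⟩ : Cj (t : GL chevG2.Idx F) base := by
    refine cj_base h2 t.2 ?_ ?_
    · have := pow_orderOf_eq_one t
      rw [ht, sq] at this
      exact congrArg Subtype.val this
    · intro h
      rw [← Subgroup.orderOf_coe, h, orderOf_one] at ht
      omega
  let t₀ : chevG2.group F := ⟨g, hg⟩ * t * ⟨g, hg⟩⁻¹
  have hval : (t₀ : GL chevG2.Idx F) = base := e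
  have hC : Subgroup.centralizer ({t₀} : Set (chevG2.group F)) = (K F).subgroupOf (chevG2.group F) := by
    ext x
    rw [Subgroup.mem_centralizer_singleton_iff, Subgroup.mem_subgroupOf, ← centralizer_eq h2, Subgroup.mem_inf,
      Subgroup.mem_centralizer_singleton_iff, ← hval]
    exact ⟨fun h => ⟨x.2, congrArg Subtype.val h⟩, fun h => Subtype.ext h.2⟩
  have hL : L1 F ⊔ L2 F ≤ chevG2.group F := L_le_group
  have hsup : (L1 F).subgroupOf (chevG2.group F) ⊔ (L2 F).subgroupOf (chevG2.group F) = (L1 F ⊔ L2 F).subgroupOf (chevG2.group F) :=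
    (Subgroup.subgroupOf_sup (le_sup_left.trans hL) (le_sup_right.trans hL)).symm
  have hshape : CentShape F t₀ := by
    refine ⟨?_, (L1 F).subgroupOf (chevG2.group F), (L2 F).subgroupOf (chevG2.group F),
      ⟨(Subgroup.subgroupOfEquivOfLe (le_sup_left.trans hL)).trans (MonoidHom.ofInjective phi8_inj).symm⟩,
      ⟨(Subgroup.subgroupOfEquivOfLe (le_sup_right.trans hL)).trans (MonoidHom.ofInjective phi10_inj).symm⟩,
      ?_, ?_, ?_, ?_⟩
    · rw [hC, Nat.card_congr (Subgroup.subgroupOfEquivOfLe K_le_group).toEquiv]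
      have hLK : L1 F ⊔ L2 F ≤ K F := le_sup_left
      rw [← Subgroup.card_mul_index ((L1 F ⊔ L2 F).subgroupOf (K F)),
        Nat.card_congr (Subgroup.subgroupOfEquivOfLe hLK).toEquiv, ← Subgroup.relIndex, relIndex_L h2,
        mul_comm, card_L h2, mul_pow]
    · rintro x ⟨g₁, hx⟩ y ⟨g₂, hy⟩
      refine Subtype.ext ?_
      show (x : GL chevG2.Idx F) * y = y * x
      change _ = (x : GL chevG2.Idx F) at hx
      change _ = (y : GL chevG2.Idx F) at hy
      rw [← hx, ← hy]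
      exact L_commute g₁ g₂
    · refine Subgroup.ext fun x => ?_
      rw [Subgroup.mem_inf, Subgroup.mem_subgroupOf, Subgroup.mem_subgroupOf, ← Subgroup.mem_inf, L1_inf_L2, Subgroup.mem_zpowers_iff, Subgroup.mem_zpowers_iff]
      simp only [← hval, ← SubgroupClass.coe_zpow, Subtype.coe_inj]
    · rw [hC, hsup]
      exact fun x hx => Subgroup.mem_sup_left hx
    · rw [hC, hsup, Subgroup.relIndex_subgroupOf K_le_group, relIndex_L h2]
  have := hshape.map (MulAut.conj (⟨g, hg⟩ : chevG2.group F)⁻¹)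
  simpa [t₀, mul_assoc] using this

end Cfsg.Agent.G2OddInvol
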